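import Groth.Agent.SymProd.K992.DivQuot
import Groth.Agent.Picfga.IdealDescent
import Groth.Agent.S1166
import Groth.Agent.S1167
import Groth.Agent.S1169
import Groth.Agent.S2925

/-!
# Symmetric powers of smooth proper curves
-/

set_option autoImplicit false
set_option backward.isDefEq.respectTransparency false
universe u

open CategoryTheory CategoryTheory.Limits AlgebraicGeometry

namespace K992.CurveSym

open Groth.Agent.Picfga.HilbPull Groth.Agent.Picfga.SecGraph Groth.Agent.Picfga.HilbZero
open K992.FibPow K992.DivMap K992.DivQuot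

/-- Two quotients of the same action are isomorphic. -/
theorem exists_iso_of_isQuot {X Y Y' : Scheme.{u}} {G : Type u} [Group G] [Finite G]
    {ρ : G →* Aut X} {p : X ⟶ Y} {p' : X ⟶ Y'} (hp : SGA1.IsQuot ρ p) (hp' : SGA1.IsQuot ρ p') :
    ∃ e : Y ≅ Y', p ≫ e.hom = p' := by
  obtain ⟨a, ha, -⟩ := Groth.Agent.S2925.result ρ p hp Y' p' hp'.inv
  obtain ⟨b, hb, -⟩ := Groth.Agent.S2925.result ρ p' hp' Y p hp.inv
  refine ⟨⟨a, b, ?_, ?_⟩, ha⟩
  · exact (Groth.Agent.S2925.result ρ p hp Y p hp.inv).unique
      (by rw [← Category.assoc, ha, hb]) (Category.comp_id _)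
  · exact (Groth.Agent.S2925.result ρ p' hp' Y' p' hp'.inv).unique
      (by rw [← Category.assoc, hb, ha]) (Category.comp_id _)

variable {C S Y : Scheme.{u}} (f : C ⟶ S)

lemma representable_of_isAF [IsSeparated f] (hAF : SymProd.IsAF f) (e : ℕ) :
    HilbD.Representable f e := by
  classical
  refine Groth.Agent.S1166.result f e fun s x hx => ?_
  obtain ⟨U, hU, hU'⟩ := hAF s (Finset.univ.image x) (by
    intro y hy
    obtain ⟨i, -, rfl⟩ := Finset.mem_image.1 hy
    exact hx i)
  exact ⟨U, hU, fun i => hU' _ (Finset.mem_image_of_mem _ (Finset.mem_univ i))⟩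

/-- The symmetric power of a smooth relative curve represents the Hilbert functor of points. -/
theorem exists_data [SmoothOfRelativeDimension 1 f] [IsSeparated f] (hAF : SymProd.IsAF f)
    (n : ℕ) (q : SymProd.fibPow f n ⟶ Y) (g : Y ⟶ S) (hq : SymProd.IsSymProd f n q g) :
    ∃ (Z : HilbD.Obj f n (Over.mk g)), HilbD.IsUniversal f n (Over.mk g) Z ∧
      HilbD.pull f (Over.homMk q hq.over : powOver f n ⟶ Over.mk g) Z.1 = taut f n ∧
      Mor2.IsFinLocFreeOfDeg n.factorial q := by
  have hrep := representable_of_isAF f hAF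
  obtain ⟨H, Z, hZ⟩ := hrep n
  obtain ⟨φ, hφ, -⟩ := hZ (powOver f n) (sumObj f _ (fun i => pr f i) (fun i => pr_comp f i))
  have hφ' : HilbD.pull f φ Z.1 = taut f n := hφ
  have hquot := isQuot_classifying f hrep n H Z hZ φ hφ'
  obtain ⟨e, he⟩ := exists_iso_of_isQuot hq.isQuot hquot
  have hw : e.hom ≫ H.hom = g := by
    have h1 := Over.w φ
    change φ.left ≫ H.hom = base f n at h1
    refine (Groth.Agent.S2925.result (SymProd.permActU f n) q hq.isQuot S (base f n) ?_).unique
      (y₁ := e.hom ≫ H.hom) (y₂ := g) ?_ hq.over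
    · intro σ
      exact SymProd.permHom_base f n σ.down
    · rw [← Category.assoc, he, h1]
  let E : Over.mk g ≅ H := Over.isoMk e hw
  refine ⟨pullObj f E.hom Z, isUniversal_of_iso hZ E, ?_, ?_⟩
  · rw [pullObj_val, ← pull_comp, ← hφ']
    congr 1
    exact Over.OverMorphism.ext he
  · have h1 := isFinLocFreeOfDeg_factorial f hrep n H Z hZ φ hφ'
    have h2 : q = φ.left ≫ e.inv := by rw [← he, Category.assoc, e.hom_inv_id, Category.comp_id]
    rw [h2, ← mul_one n.factorial]
    exact isFinLocFreeOfDeg_comp h1 (isFinLocFreeOfDeg_one_of_isIso e.inv)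

lemma isProper_base [IsProper f] (n : ℕ) : IsProper (base f n) := by
  induction n with
  | zero =>
    have := isIso_base_zero f
    infer_instance
  | succ n ih =>
    have : IsProper (init f n) :=
      MorphismProperty.of_isPullback (isPullback_init f n).flip inferInstance
    rw [← init_base]
    infer_instance

theorem isProper_and_smooth [IsProper f] [SmoothOfRelativeDimension 1 f] (hAF : SymProd.IsAF f)
    (n : ℕ) (q : SymProd.fibPow f n ⟶ Y) (g : Y ⟶ S) (hq : SymProd.IsSymProd f n q g) :
    IsProper g ∧ Smooth g := by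
  obtain ⟨Z, hZ, -, hdeg⟩ := exists_data f hAF n q g hq
  have hsep : IsSeparated g := Groth.Agent.S1167.result f n (Over.mk g) Z hZ
  have hsm : Smooth g :=
    Groth.Agent.S1169.result f (representable_of_isAF f hAF) n (Over.mk g) Z hZ
  have hsurj : Surjective q :=
    surjective_of_isFinLocFreeOfDeg q (Nat.factorial_pos n) hdeg
  have hprop : IsProper (q ≫ g) := by
    rw [hq.over]
    exact isProper_base f n
  have : UniversallyClosed g := UniversallyClosed.of_comp_surjective q g
  exact ⟨⟨⟩, hsm⟩

lemma comap_prod {A B : Scheme.{u}} (h : A ⟶ B) {ι : Type*} (s : Finset ι)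
    (I : ι → B.IdealSheafData) : (∏ i ∈ s, I i).comap h = ∏ i ∈ s, (I i).comap h := by
  classical
  induction s using Finset.induction_on with
  | empty =>
    rw [Finset.prod_empty, Finset.prod_empty]
    exact Scheme.IdealSheafData.comap_top h
  | insert i s hi ih =>
    rw [Finset.prod_insert hi, Finset.prod_insert hi, Groth.Agent.Divis.IdealComap.comap_mul, ih]

section Sym

/-- The symmetry `T ×_S X ≅ X ×_S T`. -/
noncomputable def swp (T : Over S) : pullback T.hom f ≅ PicF.XT f T := pullbackSymmetry T.hom f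

lemma swp_fst (T : Over S) :
    (swp f T).hom ≫ pullback.fst f T.hom = pullback.snd T.hom f :=
  pullbackSymmetry_hom_comp_fst _ _

lemma swp_snd (T : Over S) : (swp f T).hom ≫ PicF.XTproj f T = pullback.fst T.hom f :=
  pullbackSymmetry_hom_comp_snd _ _

lemma XT_hom_ext {T : Over S} {W : Scheme.{u}} {a b : W ⟶ PicF.XT f T}
    (h1 : a ≫ pullback.fst f T.hom = b ≫ pullback.fst f T.hom)
    (h2 : a ≫ PicF.XTproj f T = b ≫ PicF.XTproj f T) : a = b :=
  pullback.hom_ext h1 h2

/-- The degree of a divisor does not depend on the order of the factors. -/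
lemma isFinLocFreeOfDeg_comap_swp {T : Over S} {n : ℕ} {I : (PicF.XT f T).IdealSheafData}
    (hI : Mor2.IsFinLocFreeOfDeg n (I.subschemeι ≫ PicF.XTproj f T)) :
    Mor2.IsFinLocFreeOfDeg n ((I.comap (swp f T).hom).subschemeι ≫ pullback.fst T.hom f) := by
  have h1 : IsPullback ((I.comapIso (swp f T).hom).hom ≫ pullback.snd _ _)
      (I.comap (swp f T).hom).subschemeι I.subschemeι (swp f T).hom := by
    refine IsPullback.flip ?_
    refine IsPullback.of_iso (IsPullback.of_hasPullback (swp f T).hom I.subschemeι)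
      (I.comapIso (swp f T).hom).symm (Iso.refl _) (Iso.refl _) (Iso.refl _) ?_ ?_ ?_ ?_
    · simp
    · rw [Iso.symm_hom, Iso.refl_hom, Category.comp_id, Iso.inv_hom_id_assoc]
    · simp
    · simp
  have h2 : IsPullback (swp f T).hom (pullback.fst T.hom f) (PicF.XTproj f T) (𝟙 T.left) :=
    IsPullback.of_horiz_isIso ⟨by rw [swp_snd]; exact (Category.comp_id _).symm⟩
  exact isFinLocFreeOfDeg_of_isPullback (h1.paste_vert h2) hI

variable (n : ℕ) (q : SymProd.fibPow f n ⟶ Y) (g : Y ⟶ S) (w : q ≫ g = base f n)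

/-- `q × id`. -/
noncomputable abbrev qid : pullback (base f n) f ⟶ pullback g f :=
  pullback.map (base f n) f g f q (𝟙 C) (𝟙 S) ((Category.comp_id _).trans w.symm)
    ((Category.comp_id f).trans (Category.id_comp f).symm)

/-- the `i`-th graph -/
noncomputable abbrev gr (i : Fin n) : SymProd.fibPow f n ⟶ pullback (base f n) f :=
  pullback.lift (𝟙 (SymProd.fibPow f n)) (pr f i) ((Category.id_comp _).trans (pr_comp f i).symm)

/-- `q` as a morphism over `S` -/
noncomputable abbrev qOver : powOver f n ⟶ Over.mk g := Over.homMk q w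

lemma qid_symm : qid f n q g w ≫ (swp f (Over.mk g)).hom =
    (swp f (powOver f n)).hom ≫ PicF.XTmap f (qOver f n q g w) := by
  apply XT_hom_ext
  · rw [Category.assoc, swp_fst, Category.assoc, XTmap_fst, swp_fst]
    exact (pullback.lift_snd _ _ _).trans (Category.comp_id _)
  · rw [Category.assoc, swp_snd, Category.assoc, XTmap_snd, ← Category.assoc, swp_snd]
    exact pullback.lift_fst _ _ _

lemma prod_ker_gr [IsSeparated f] :
    (∏ i : Fin n, (gr f n i).ker) = (taut f n).comap (swp f (powOver f n)).hom := by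
  unfold taut sumGraph
  rw [comap_prod]
  refine Finset.prod_congr rfl fun i _ => ?_
  rw [secGraph_eq_ker]
  have hw : gr f n i ≫ (swp f (powOver f n)).hom =
      𝟙 _ ≫ sec f (powOver f n) (pr f i) (pr_comp f i) := by
    rw [Category.id_comp]
    apply XT_hom_ext
    · rw [Category.assoc, swp_fst, sec_fst]
      exact pullback.lift_snd _ _ _
    · rw [Category.assoc, swp_snd, sec_proj]
      exact pullback.lift_fst _ _ _
  have : IsIso (𝟙 (powOver f n).left : (powOver f n).left ⟶ (powOver f n).left) := IsIso.id _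
  exact ker_eq_comap_of_isPullback (IsPullback.of_horiz_isIso ⟨hw.symm⟩)

end Sym

/-- The sum of the graphs descends uniquely to the symmetric power. -/
theorem existsUnique_ideal [SmoothOfRelativeDimension 1 f] [IsSeparated f] (hAF : SymProd.IsAF f)
    (n : ℕ) (q : SymProd.fibPow f n ⟶ Y) (g : Y ⟶ S) (hq : SymProd.IsSymProd f n q g) :
    (∃! J : (pullback g f).IdealSheafData,
      J.comap (qid f n q g hq.over) = ∏ i : Fin n, (gr f n i).ker) ∧
    ∀ J : (pullback g f).IdealSheafData,
      J.comap (qid f n q g hq.over) = ∏ i : Fin n, (gr f n i).ker →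
      Mor2.IsFinLocFreeOfDeg n (J.subschemeι ≫ pullback.fst g f) := by
  obtain ⟨Z, hZ, hpull, hdeg⟩ := exists_data f hAF n q g hq
  have hsurj : Surjective q := surjective_of_isFinLocFreeOfDeg q (Nat.factorial_pos n) hdeg
  obtain ⟨⟨hfin, hflat, hfp⟩, -⟩ := hdeg
  have Hp := isPullback_XTmap f (qOver f n q g hq.over)
  have p1 : Flat (PicF.XTmap f (qOver f n q g hq.over)) :=
    MorphismProperty.of_isPullback Hp.flip hflat
  have p2 : Surjective (PicF.XTmap f (qOver f n q g hq.over)) :=
    MorphismProperty.of_isPullback Hp.flip hsurj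
  have hqc : QuasiCompact q := inferInstance
  have p3 : QuasiCompact (PicF.XTmap f (qOver f n q g hq.over)) :=
    MorphismProperty.of_isPullback Hp.flip hqc
  have hm : qid f n q g hq.over = (swp f (powOver f n)).hom ≫
      PicF.XTmap f (qOver f n q g hq.over) ≫ (swp f (Over.mk g)).inv := by
    rw [← Category.assoc, ← qid_symm, Category.assoc, Iso.hom_inv_id, Category.comp_id]
  have m1 : Flat (qid f n q g hq.over) := by rw [hm]; infer_instance
  have m2 : Surjective (qid f n q g hq.over) := by rw [hm]; infer_instance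
  have m3 : QuasiCompact (qid f n q g hq.over) := by rw [hm]; infer_instance
  have hex : (Z.1.comap (swp f (Over.mk g)).hom).comap (qid f n q g hq.over) =
      ∏ i : Fin n, (gr f n i).ker := by
    rw [← Scheme.IdealSheafData.comap_comp, qid_symm, Scheme.IdealSheafData.comap_comp,
      ← pull_eq_comap, hpull, prod_ker_gr]
  have huniq : ∀ J : (pullback g f).IdealSheafData,
      J.comap (qid f n q g hq.over) = ∏ i : Fin n, (gr f n i).ker →
      J = Z.1.comap (swp f (Over.mk g)).hom := fun J hJ =>
    Groth.Agent.Picfga.IdealDescent.comap_injective_of_fpqc (qid f n q g hq.over)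
      (hJ.trans hex.symm)
  refine ⟨⟨_, hex, huniq⟩, fun J hJ => ?_⟩
  rw [huniq J hJ]
  exact isFinLocFreeOfDeg_comap_swp f Z.2

end K992.CurveSym
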