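import Groth.Agent.SymProd.K992.SymGood

/-!
# Flatness and base change of symmetric products of flat morphisms
-/

set_option autoImplicit false
set_option backward.isDefEq.respectTransparency false
universe u

open CategoryTheory CategoryTheory.Limits AlgebraicGeometry

namespace K992.SymBC

open K992.FibPow K992.GoodSch K992.SymGood

variable {X S : Scheme.{u}} (f : X ⟶ S)

lemma flat_base [Flat f] (n : ℕ) : Flat (base f n) := by
  induction n with
  | zero =>
    have := isIso_base_zero f
    infer_instance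
  | succ n ih =>
    have : Flat (init f n) := MorphismProperty.of_isPullback (isPullback_init f n).flip inferInstance
    rw [← init_base]
    infer_instance

/-- Flatness of the symmetric product. -/
theorem flat_symProd [Flat f] (hAF : SymProd.IsAF f) {n : ℕ} {Y : Scheme.{u}}
    {q : SymProd.fibPow f n ⟶ Y} {g : Y ⟶ S} (hq : SymProd.IsSymProd f n q g) : Flat g := by
  have h1 : Flat (q ≫ g) := by
    rw [hq.over]
    exact flat_base f n
  exact flat_of_hasGood hq.isQuot (hasGood n hAF hq)

variable {f}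

/-- The fibre power of a base change. -/
lemma isPullback_fibPow {X' S' : Scheme.{u}} {f' : X' ⟶ S'} {a : X' ⟶ X} {b : S' ⟶ S}
    (H : IsPullback a f' f b) {n : ℕ} (c : SymProd.fibPow f' n ⟶ SymProd.fibPow f n)
    (hc : ∀ i : Fin n, c ≫ pr f i = pr f' i ≫ a) (hcb : c ≫ base f n = base f' n ≫ b) :
    IsPullback c (base f' n) (base f n) b := by
  have hl : ∀ s : PullbackCone (base f n) b, ∀ i : Fin n,
      H.lift (s.fst ≫ pr f i) s.snd (by rw [Category.assoc, pr_comp, s.condition]) ≫ f' = s.snd :=
    fun s i => H.lift_snd _ _ _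
  refine ⟨⟨hcb⟩, ⟨PullbackCone.IsLimit.mk hcb
    (fun s => lift f' s.snd (fun i => H.lift (s.fst ≫ pr f i) s.snd
      (by rw [Category.assoc, pr_comp, s.condition])) (hl s)) ?_ ?_ ?_⟩⟩
  · intro s
    apply hom_ext
    · intro i
      rw [Category.assoc, hc, ← Category.assoc, lift_pr, H.lift_fst]
    · rw [Category.assoc, hcb, ← Category.assoc, lift_base, s.condition]
  · intro s
    rw [lift_base]
  · intro s m h1 h2
    apply hom_ext
    · intro i
      rw [lift_pr]
      apply H.hom_ext
      · rw [H.lift_fst, Category.assoc, ← hc, ← Category.assoc, h1]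
      · rw [H.lift_snd, Category.assoc, pr_comp, h2]
    · rw [lift_base, h2]

/-- Base change of the symmetric product. -/
theorem isSymProd_baseChange [Flat f] (hAF : SymProd.IsAF f) {n : ℕ} {Y : Scheme.{u}}
    {q : SymProd.fibPow f n ⟶ Y} {g : Y ⟶ S} (hq : SymProd.IsSymProd f n q g)
    {X' S' Y' : Scheme.{u}} {f' : X' ⟶ S'} {a : X' ⟶ X} {b : S' ⟶ S}
    (H : IsPullback a f' f b) (c : SymProd.fibPow f' n ⟶ SymProd.fibPow f n)
    (hc : ∀ i : Fin n, c ≫ pr f i = pr f' i ≫ a) (hcb : c ≫ base f n = base f' n ≫ b)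
    {gY : Y' ⟶ Y} {g' : Y' ⟶ S'} (hY : IsPullback gY g' g b)
    (q' : SymProd.fibPow f' n ⟶ Y') (hq'₁ : q' ≫ gY = c ≫ q) (hq'₂ : q' ≫ g' = base f' n) :
    SymProd.IsSymProd f' n q' g' := by
  have hbig : IsPullback c (q' ≫ g') (q ≫ g) b := by
    rw [hq'₂, hq.over]
    exact isPullback_fibPow H c hc hcb
  have hX : IsPullback c q' q gY := IsPullback.of_bot hbig hq'₁.symm hY
  have hρ₁ : ∀ σ, (SymProd.permActU f' n σ).hom ≫ c = c ≫ (SymProd.permActU f n σ).hom := by
    intro σ
    apply hom_ext
    · intro i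
      rw [Category.assoc, hc, SymProd.permActU_hom, Category.assoc, SymProd.permActU_hom,
        SymProd.permHom_π, hc, SymProd.permHom_π_assoc]
    · rw [Category.assoc, hcb, SymProd.permActU_hom, Category.assoc, SymProd.permActU_hom,
        SymProd.permHom_base, hcb, SymProd.permHom_base_assoc]
  have hρ₂ : ∀ σ, (SymProd.permActU f' n σ).hom ≫ q' = q' := by
    intro σ
    apply hY.hom_ext
    · rw [Category.assoc, hq'₁, ← Category.assoc, hρ₁, Category.assoc, hq.isQuot.inv]
    · rw [Category.assoc, hq'₂, SymProd.permActU_hom, SymProd.permHom_base]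
  exact ⟨isQuot_baseChange hq.isQuot (hasGood n hAF hq) hY hX hρ₁ hρ₂, hq'₂⟩

end K992.SymBC
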