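import Groth.Agent.SymProd.K992.SpecPow

/-!
# Affine charts of symmetric products
-/

set_option autoImplicit false
set_option backward.isDefEq.respectTransparency false
universe u

open CategoryTheory CategoryTheory.Limits AlgebraicGeometry

namespace K992.ChartThm

open K992.FibPow K992.Charts K992.SpecPow Groth.Agent.Sga1.QuotBasic

variable {X S : Scheme.{u}} {f : X ⟶ S}

section Box

variable (n : ℕ) {U : X.Opens} (hU : IsAffineOpen U) {V : S.Opens} (hV : IsAffineOpen V)
  (h : U ≤ f ⁻¹ᵁ V)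

/-- The algebra of sections. -/
@[implicit_reducible]
noncomputable def secAlg (h : U ≤ f ⁻¹ᵁ V) : Algebra Γ(S, V) Γ(X, U) := (f.appLE V U h).hom.toAlgebra

include hU hV in
lemma chart_w : letI := secAlg h
    Spec.map (CommRingCat.ofHom (algebraMap Γ(S, V) Γ(X, U))) ≫ hV.fromSpec = hU.fromSpec ≫ f :=
  hV.SpecMap_appLE_fromSpec f hU h

include hU hV h in
/-- The box of affine opens is affine. -/
theorem isAffineOpen_box : IsAffineOpen (box f n U V) := by
  let := secAlg h
  have h1 := opensRange_jj hU.fromSpec hV.fromSpec (chart_w hU hV h) n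
  rw [IsAffineOpen.opensRange_fromSpec, IsAffineOpen.opensRange_fromSpec] at h1
  rw [← h1]
  exact isAffineOpen_opensRange _

end Box

/-- Every finite orbit lies in an affine open. -/
theorem exists_affine_orbit (hAF : SymProd.IsAF f) (n : ℕ) (x : SymProd.fibPow f n) :
    ∃ U : (SymProd.fibPow f n).Opens, IsAffineOpen U ∧
      ∀ σ : Equiv.Perm (Fin n), (SymProd.permHom f n σ).base x ∈ U := by
  obtain ⟨_, ⟨V, hV, rfl⟩, hxV, -⟩ := S.isBasis_affineOpens.exists_subset_of_mem_open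
    (Set.mem_univ (base f n x)) isOpen_univ
  obtain ⟨U, hU, hUV, hx⟩ := exists_mem_box hAF x V hxV
  exact ⟨box f n U V, isAffineOpen_box n hU hV hUV, fun σ => (permHom_mem_box σ).2 hx⟩

variable {Y : Scheme.{u}} {n : ℕ} {q : SymProd.fibPow f n ⟶ Y} {g : Y ⟶ S}

/-- Affine charts of symmetric products. -/
theorem exists_chart (hAF : SymProd.IsAF f) (hq : SymProd.IsSymProd f n q g) (y : Y)
    (V : S.Opens) (hV : IsAffineOpen V) (hy : g y ∈ V) :
    ∃ U : X.Opens, IsAffineOpen U ∧ ∃ _ : U ≤ f ⁻¹ᵁ V, ∃ W' : Y.Opens, y ∈ W' ∧ IsAffineOpen W' ∧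
      q ⁻¹ᵁ W' = box f n U V := by
  obtain ⟨x, rfl⟩ := surjective_of_isQuot hq.isQuot y
  have h1 : base f n x = g (q x) := by
    rw [← Scheme.Hom.comp_apply, hq.over]
  obtain ⟨U, hU, hUV, hx⟩ := exists_mem_box hAF x V (by rw [h1]; exact hy)
  let W' : Y.Opens := ⟨q '' (box f n U V : Set (SymProd.fibPow f n)),
    isOpenMap_of_isQuot hq.isQuot _ (box f n U V).2⟩
  have hW : q ⁻¹ᵁ W' = box f n U V := by
    ext x'
    constructor
    · rintro ⟨x'', hx'', heq⟩
      obtain ⟨σ, hσ⟩ := exists_apply_eq_of_isQuot hq.isQuot heq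
      rw [← hσ]
      exact (permHom_mem_box σ.down).2 hx''
    · intro hx'
      exact ⟨x', hx', rfl⟩
  refine ⟨U, hU, hUV, W', ⟨x, hx, rfl⟩, ?_, hW⟩
  apply Groth.Agent.Sga1.QuotAffine.isAffineOpen_of_preimage hq.isQuot
  rw [hW]
  exact isAffineOpen_box n hU hV hUV

end K992.ChartThm
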