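import Groth.Agent.SymProd.K992.BigDiag
import Groth.Agent.Lefpen.H703.ClosedSmooth
import Groth.Agent.Lefpen.H705.ClosedPoint
import Groth.Agent.Sga4h.H924.Codim
import Groth.Agent.UnramA.SmoothFibreDim
import Groth.Agent.VarietyB.DimSch
import Groth.Agent.S1617

/-!
# Dimensions of fibre powers of a smooth irreducible scheme over an algebraically closed field

* `smoothOfRelativeDimension`: a smooth irreducible scheme of dimension `d` is smooth of relative dimension `d`;
* `smoothOfRelativeDimension_base`: its `n`-th fibre power is smooth of relative dimension `n * d`;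
* `le_ringKrullDim_of_mem_bigDiag`: the local rings at the points of the big diagonal have dimension at least `d`.
-/

set_option autoImplicit false
universe u

open CategoryTheory CategoryTheory.Limits AlgebraicGeometry

namespace K992.DimPow

open K992.FibPow K992.BigDiag

variable {k : Type u} [Field k] {X : Scheme.{u}} (f : X ⟶ Spec (CommRingCat.of k))

theorem smoothOfRelativeDimension [IsAlgClosed k] [Smooth f] [IrreducibleSpace X] (d : ℕ)
    (hdim : topologicalKrullDim X = d) : SmoothOfRelativeDimension d f := by
  refine Groth.Agent.Lefpen.H703.ClosedSmooth.smoothOfRelativeDimension_of_closed f d fun z hz =>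
    ⟨Groth.Agent.Lefpen.H705.ClosedPoint.isRegularLocalRing_stalk f z, ?_⟩
  let _ : X.Over (Spec (CommRingCat.of k)) := ⟨f⟩
  have hft : LocallyOfFiniteType (X ↘ Spec (CommRingCat.of k)) :=
    inferInstanceAs (LocallyOfFiniteType f)
  rw [← Groth.Agent.S1617.result k X z hz,
    Groth.Agent.VarietyB.DimSch.localDim_eq_of_irreducible k,
    ← Groth.Agent.VarietyB.DimSch.topologicalKrullDim_eq_trd k, hdim]

theorem smoothOfRelativeDimension_base {S : Scheme.{u}} (f : X ⟶ S) (d : ℕ)
    [SmoothOfRelativeDimension d f] (n : ℕ) :
    SmoothOfRelativeDimension (n * d) (base f n) := by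
  induction n with
  | zero =>
    have := isIso_base_zero f
    rw [zero_mul]
    infer_instance
  | succ n ih =>
    have h1 : SmoothOfRelativeDimension d (init f n) :=
      (smoothOfRelativeDimension_isStableUnderBaseChange d).of_isPullback (isPullback_init f n).flip
        inferInstance
    rw [← init_base, show (n + 1) * d = d + n * d by ring]
    infer_instance

theorem topologicalKrullDim_le {Z : Scheme.{u}} (N : ℕ) (g : Z ⟶ Spec (CommRingCat.of k))
    [SmoothOfRelativeDimension N g] : topologicalKrullDim Z ≤ N := by
  rw [Groth.Agent.VarietyB.DimTop.topologicalKrullDim_eq_iSup_localDim]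
  exact iSup_le fun z => (Groth.Agent.UnramA.SmoothFibreDim.localDim_eq N g z).le

theorem le_ringKrullDim_of_mem_bigDiag [IsSeparated f] (d : ℕ) [SmoothOfRelativeDimension d f] (m : ℕ)
    (x : SymProd.fibPow f (m + 1)) (hx : x ∈ bigDiag f m) :
    ((d : ℕ) : WithBot ℕ∞) ≤ ringKrullDim ((SymProd.fibPow f (m + 1)).presheaf.stalk x) := by
  obtain ⟨i, j, hij, w, rfl⟩ := (mem_bigDiag f).1 hx
  have h1 := smoothOfRelativeDimension_base f d m
  have h2 := smoothOfRelativeDimension_base f d (m + 1)
  have h3 : topologicalKrullDim ↥(Set.range (δ f i j hij)) ≤ ((m * d : ℕ) : WithBot ℕ∞) := by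
    refine le_trans (le_of_eq ?_) (topologicalKrullDim_le (m * d) (base f m))
    exact (IsHomeomorph.topologicalKrullDim_eq _
      (δ f i j hij).isClosedEmbedding.toIsEmbedding.toHomeomorph.isHomeomorph).symm
  have h4 := Groth.Agent.Sga4h.H924.Codim.le_ringKrullDim_stalk ((m + 1) * d) (m * d)
    (base f (m + 1)) (Set.range (δ f i j hij)) (δ f i j hij).isClosedEmbedding.isClosed_range h3
    (δ f i j hij w) ⟨w, rfl⟩
  rwa [show (m + 1) * d - m * d = d by rw [add_mul, one_mul, Nat.add_sub_cancel_left]] at h4

end K992.DimPow
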