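import Groth.Agent.SymProd.K992.EtaleFree
import Groth.Agent.SymProd.K992.DimPow
import Groth.Agent.Sga1.QuotAffine
import Groth.Agent.Sga1.EtaleSection
import Groth.Agent.CurvesC.RegNormal
import Groth.Agent.S0256
import Groth.Agent.S0565

/-!
# The singular locus of a symmetric power

Let `X` be a smooth irreducible separated scheme of dimension `d ≥ 2` over an algebraically closed field.
-/

set_option autoImplicit false
universe u

open CategoryTheory CategoryTheory.Limits AlgebraicGeometry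

namespace K992.SymSing

open K992.FibPow K992.BigDiag K992.DimPow

theorem isRegularLocalRing_stalk_of_flat {X Y : Scheme.{u}} (f : Y ⟶ X) [Flat f] [IsLocallyNoetherian X]
    (y : Y) (h : IsRegularLocalRing (Y.presheaf.stalk y)) : IsRegularLocalRing (X.presheaf.stalk (f y)) := by
  algebraize [(f.stalkMap y).hom]
  have : IsNoetherianRing (X.presheaf.stalk (f y)) := inferInstance
  have : IsLocalHom (algebraMap (X.presheaf.stalk (f y)) (Y.presheaf.stalk y)) :=
    inferInstanceAs (IsLocalHom (f.stalkMap y).hom)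
  have : Module.Flat (X.presheaf.stalk (f y)) (Y.presheaf.stalk y) := Flat.stalkMap f y
  exact Groth.Agent.S0565.result (X.presheaf.stalk (f y)) (Y.presheaf.stalk y)

section Etale

variable {X S : Scheme.{u}} (f : X ⟶ S) [IsSeparated f] {m : ℕ} {Y : Scheme.{u}}
  {q : SymProd.fibPow f (m + 1) ⟶ Y} {g : Y ⟶ S}

/-- The quotient map is étale away from the big diagonal. -/
theorem etale_of_notMem_bigDiag (hY : SymProd.IsSymProd f (m + 1) q g) (z : SymProd.fibPow f (m + 1))
    (hz : z ∉ bigDiag f m) : ∃ V : (SymProd.fibPow f (m + 1)).Opens, z ∈ V ∧ Etale (V.ι ≫ q) := by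
  refine K992.EtaleFree.etale_of_notMem hY.isQuot (bigDiag f m) (isClosed_bigDiag f m) ?_ z hz
  intro K _ _ ξ σ hσ hN
  by_contra hne
  obtain ⟨t₀⟩ : Nonempty (Spec (CommRingCat.of K)) := inferInstance
  refine hN t₀ (mem_of_fixed f (σ := σ.down) ?_ ξ hσ t₀)
  intro h
  exact hne (ULift.ext _ _ h)

omit [IsSeparated f] in
lemma δ_permHom_swap (i j : Fin (m + 1)) (hij : i ≠ j) :
    δ f i j hij ≫ SymProd.permHom f (m + 1) (Equiv.swap i j) = δ f i j hij := by
  apply hom_ext
  · intro k
    rw [Category.assoc, pr, SymProd.permHom_π, Equiv.symm_swap]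
    change δ f i j hij ≫ pr f (Equiv.swap i j k) = δ f i j hij ≫ pr f k
    rw [δ_pr, δ_pr]
    congr 1
    by_cases hki : k = i
    · subst hki
      rw [Equiv.swap_apply_left, idx_other]
    · by_cases hkj : k = j
      · subst hkj
        rw [Equiv.swap_apply_right, idx_other]
      · rw [Equiv.swap_apply_of_ne_of_ne hki hkj]
  · rw [Category.assoc, SymProd.permHom_base]

/-- If the quotient map is étale near a point `δ w` of the big diagonal, then all generizations of
that point are in the big diagonal. -/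
theorem mem_bigDiag_of_specializes (hY : SymProd.IsSymProd f (m + 1) q g) {i j : Fin (m + 1)} (hij : i ≠ j)
    (w : SymProd.fibPow f m) (U : (SymProd.fibPow f (m + 1)).Opens) (hU : δ f i j hij w ∈ U)
    (het : Etale (U.ι ≫ q)) (y : SymProd.fibPow f (m + 1)) (hy : y ⤳ δ f i j hij w) :
    y ∈ bigDiag f m := by
  let τ : SymProd.fibPow f (m + 1) ⟶ SymProd.fibPow f (m + 1) :=
    SymProd.permHom f (m + 1) (Equiv.swap i j)
  have hτ : δ f i j hij ≫ τ = δ f i j hij := δ_permHom_swap f i j hij
  have hτq : τ ≫ q = q := hY.isQuot.inv ⟨Equiv.swap i j⟩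
  let T : (SymProd.fibPow f (m + 1)).Opens := U ⊓ τ ⁻¹ᵁ U
  have hτw : τ (δ f i j hij w) = δ f i j hij w := congrArg (fun φ => φ w) hτ
  have hT : δ f i j hij w ∈ T := ⟨hU, by
    change τ (δ f i j hij w) ∈ U
    rw [hτw]; exact hU⟩
  let a : T.toScheme ⟶ U.toScheme := (SymProd.fibPow f (m + 1)).homOfLE inf_le_left
  have ha : a ≫ U.ι = T.ι := Scheme.homOfLE_ι _ _
  let b : T.toScheme ⟶ U.toScheme := τ.resLE U T inf_le_right
  have hb : b ≫ U.ι = T.ι ≫ τ := Scheme.Hom.resLE_comp_ι _ _
  have hab : a ≫ (U.ι ≫ q) = b ≫ (U.ι ≫ q) := by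
    rw [← Category.assoc, ha, ← Category.assoc, hb, Category.assoc, hτq]
  have hopen := Groth.Agent.Sga1.EtaleSection.isOpenImmersion_equalizer (U.ι ≫ q) a b hab
  let ε : equalizer a b ⟶ SymProd.fibPow f (m + 1) := equalizer.ι a b ≫ T.ι
  have hε : ε ≫ τ = ε := by
    change (equalizer.ι a b ≫ T.ι) ≫ τ = equalizer.ι a b ≫ T.ι
    rw [Category.assoc, ← hb, ← Category.assoc, ← equalizer.condition, Category.assoc, ha]
  -- the point is in the range of ε
  let κ : Spec ((SymProd.fibPow f m).residueField w) ⟶ SymProd.fibPow f (m + 1) :=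
    (SymProd.fibPow f m).fromSpecResidueField w ≫ δ f i j hij
  have hκτ : κ ≫ τ = κ := by
    change ((SymProd.fibPow f m).fromSpecResidueField w ≫ δ f i j hij) ≫ τ = _
    rw [Category.assoc, hτ]
  obtain ⟨t₀⟩ : Nonempty (Spec ((SymProd.fibPow f m).residueField w)) := inferInstance
  have hκr : Set.range κ ⊆ Set.range T.ι := by
    rintro _ ⟨t, rfl⟩
    rw [Scheme.Opens.range_ι]
    change δ f i j hij ((SymProd.fibPow f m).fromSpecResidueField w t) ∈ T
    rw [Scheme.fromSpecResidueField_apply]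
    exact hT
  let κ' : Spec ((SymProd.fibPow f m).residueField w) ⟶ T.toScheme := IsOpenImmersion.lift T.ι κ hκr
  have hκ' : κ' ≫ T.ι = κ := IsOpenImmersion.lift_fac _ _ _
  have hκab : κ' ≫ a = κ' ≫ b := by
    rw [← cancel_mono U.ι, Category.assoc, Category.assoc, ha, hb, ← Category.assoc, hκ', hκτ]
  have hmem : δ f i j hij w ∈ ε.opensRange := by
    refine ⟨equalizer.lift κ' hκab t₀, ?_⟩
    have h1 : equalizer.lift κ' hκab ≫ ε = κ := by
      change equalizer.lift κ' hκab ≫ equalizer.ι a b ≫ T.ι = κ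
      rw [equalizer.lift_ι_assoc, hκ']
    have h2 := congrArg (fun φ => φ t₀) h1
    refine h2.trans ?_
    change δ f i j hij ((SymProd.fibPow f m).fromSpecResidueField w t₀) = _
    rw [Scheme.fromSpecResidueField_apply]
  obtain ⟨e, rfl⟩ : y ∈ ε.opensRange := hy.mem_open ε.opensRange.2 hmem
  exact mem_of_fixed f (σ := Equiv.swap i j)
    (fun h => hij (Equiv.swap_eq_one_iff.mp h)) ε hε e

end Etale

variable {k : Type u} [Field k] [IsAlgClosed k] {X : Scheme.{u}} (f : X ⟶ Spec (CommRingCat.of k))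
  [Smooth f] [IsSeparated f] [IrreducibleSpace X] {d : ℕ} {m : ℕ} {Y : Scheme.{u}}
  {q : SymProd.fibPow f (m + 1) ⟶ Y} {g : Y ⟶ Spec (CommRingCat.of k)}

lemma mem_bigDiag_of_not_injective (z : SymProd.fibPow f (m + 1))
    (hz : IsClosed ({z} : Set (SymProd.fibPow f (m + 1)))) {i j : Fin (m + 1)} (hij : i ≠ j)
    (h : pr f i z = pr f j z) : ∃ w, δ f i j hij w = z := by
  let ζ := pointOfClosedPoint (base f (m + 1)) z hz
  have hζ : ζ ≫ base f (m + 1) = 𝟙 _ := pointOfClosedPoint_comp _ _ _
  have h1 : ζ ≫ pr f i = ζ ≫ pr f j := by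
    refine ext_of_apply_closedPoint_eq f ?_ ?_ ?_
    · rw [Category.assoc, pr_comp, hζ]
    · rw [Category.assoc, pr_comp, hζ]
    · have e : ζ (IsLocalRing.closedPoint k) = z := pointOfClosedPoint_apply _ _ _ _
      change pr f i (ζ (IsLocalRing.closedPoint k)) = pr f j (ζ (IsLocalRing.closedPoint k))
      exact (congrArg (pr f i) e).trans (h.trans (congrArg (pr f j) e).symm)
  refine ⟨(ζ ≫ forget f i) (IsLocalRing.closedPoint k), ?_⟩
  have h2 := congrArg (fun φ => φ (IsLocalRing.closedPoint k)) (eq_comp_δ f i j hij ζ h1)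
  refine h2.symm.trans ?_
  exact pointOfClosedPoint_apply _ _ _ _

theorem main (hd : 2 ≤ d) (hdim : topologicalKrullDim X = d)
    (hY : SymProd.IsSymProd f (m + 1) q g) (z : SymProd.fibPow f (m + 1))
    (hz : IsClosed ({z} : Set (SymProd.fibPow f (m + 1)))) :
    IsRegularLocalRing (Y.presheaf.stalk (q z)) ↔
      Function.Injective (fun i : Fin (m + 1) => pr f i z) := by
  have hft : LocallyOfFiniteType (base f (m + 1)) := inferInstance
  have hfin : IsFinite q := Groth.Agent.Sga1.QuotAffine.isFinite_of_isQuot hY.isQuot hY.over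
  have hgft : LocallyOfFiniteType g :=
    Groth.Agent.Sga1.QuotAffine.locallyOfFiniteType_of_isQuot hY.isQuot hY.over
  have hYn : IsLocallyNoetherian Y := LocallyOfFiniteType.isLocallyNoetherian g
  have hPn : IsLocallyNoetherian (SymProd.fibPow f (m + 1)) :=
    LocallyOfFiniteType.isLocallyNoetherian (base f (m + 1))
  have hfd := smoothOfRelativeDimension f d hdim
  constructor
  · intro hreg
    by_contra hinj
    rw [Function.Injective] at hinj
    push Not at hinj
    obtain ⟨i, j, hpij, hij⟩ := hinj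
    obtain ⟨w, rfl⟩ := mem_bigDiag_of_not_injective f z hz hij hpij
    have hwmem : δ f i j hij w ∈ bigDiag f m := (mem_bigDiag f).2 ⟨i, j, hij, w, rfl⟩
    have hPreg : IsRegularLocalRing ((SymProd.fibPow f (m + 1)).presheaf.stalk (δ f i j hij w)) :=
      Groth.Agent.Lefpen.H705.ClosedPoint.isRegularLocalRing_stalk (base f (m + 1)) _
    have hdd : (2 : WithBot ℕ∞) ≤ ((d : ℕ) : WithBot ℕ∞) := by exact_mod_cast hd
    have h2 := le_ringKrullDim_of_mem_bigDiag f d m _ hwmem
    obtain ⟨U, hU, het⟩ := Groth.Agent.S0256.result q (δ f i j hij w)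
      ⟨Groth.Agent.CurvesC.RegNormal.isDomain _, Groth.Agent.CurvesC.RegNormal.isIntegrallyClosed _⟩
      (le_trans (by norm_num) (hdd.trans h2)) hreg
      (fun x' _ hx' => by
        refine etale_of_notMem_bigDiag f hY x' fun hmem => ?_
        have h3 := hdd.trans (le_ringKrullDim_of_mem_bigDiag f d m _ hmem)
        rw [hx'] at h3
        exact absurd h3 (by norm_num))
    obtain ⟨y, hy, hy0⟩ := Groth.Agent.Sga4h.H924.Codim.exists_specializes
      (SymProd.fibPow f (m + 1)) (δ f i j hij w)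
    have h4 := mem_bigDiag_of_specializes f hY hij w U hU het y hy
    have h5 := hdd.trans (le_ringKrullDim_of_mem_bigDiag f d m _ h4)
    rw [hy0] at h5
    exact absurd h5 (by norm_num)
  · intro hinj
    obtain ⟨V, hzV, hV⟩ := etale_of_notMem_bigDiag f hY z (fun h => not_injective_of_mem f h hinj)
    have h1 : IsRegularLocalRing (V.toScheme.presheaf.stalk ⟨z, hzV⟩) :=
      Groth.Agent.Lefpen.H705.ClosedPoint.isRegularLocalRing_stalk (V.ι ≫ base f (m + 1)) _
    exact isRegularLocalRing_stalk_of_flat (V.ι ≫ q) ⟨z, hzV⟩ h1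

end K992.SymSing
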