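import Groth.Agent.SymProd.K992.FibPow
import Mathlib.AlgebraicGeometry.Morphisms.Separated
import Mathlib.AlgebraicGeometry.Morphisms.Smooth

/-!
# The big diagonal of a fibre power

For `i ≠ j : Fin (m+1)` the diagonal `δ i j : X^m ⟶ X^(m+1)` onto `x_i = x_j` is a closed immersion (for `X`
separated), and every morphism `a : T ⟶ X^(m+1)` with `a_i = a_j` factors through it.
-/

set_option autoImplicit false
universe u

open CategoryTheory CategoryTheory.Limits AlgebraicGeometry

namespace K992.BigDiag

open K992.FibPow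

variable {X S : Scheme.{u}} (f : X ⟶ S)

/-- A property stable under base change and composition and containing isomorphisms passes to the structure maps
of fibre powers. -/
lemma base_of (P : MorphismProperty Scheme.{u}) [P.IsStableUnderBaseChange] [P.IsStableUnderComposition]
    (hiso : ∀ {X Y : Scheme.{u}} (g : X ⟶ Y) [IsIso g], P g) (hf : P f) (n : ℕ) : P (base f n) := by
  induction n with
  | zero =>
    have := isIso_base_zero f
    exact hiso _
  | succ n ih =>
    rw [← init_base]
    exact P.comp_mem _ _ (P.of_isPullback (isPullback_init f n).flip hf) ih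

instance isSeparated_base [IsSeparated f] (n : ℕ) : IsSeparated (base f n) :=
  base_of f @IsSeparated (fun _ _ => inferInstance) inferInstance n

instance smooth_base [Smooth f] (n : ℕ) : Smooth (base f n) :=
  base_of f @Smooth (fun _ _ => inferInstance) inferInstance n

variable {m : ℕ}

/-- The map of index sets: identity on `Fin m` embedded by `i.succAbove`, and `i ↦ j`. -/
noncomputable def idx (i j : Fin (m + 1)) (hij : i ≠ j) (k : Fin (m + 1)) : Fin m :=
  if h : k = i then (Fin.exists_succAbove_eq hij.symm).choose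
  else (Fin.exists_succAbove_eq h).choose

lemma idx_self (i j : Fin (m + 1)) (hij : i ≠ j) : i.succAbove (idx i j hij i) = j := by
  rw [idx, dif_pos rfl]
  exact (Fin.exists_succAbove_eq hij.symm).choose_spec

lemma idx_ne (i j : Fin (m + 1)) (hij : i ≠ j) {k : Fin (m + 1)} (h : k ≠ i) :
    i.succAbove (idx i j hij k) = k := by
  rw [idx, dif_neg h]
  exact (Fin.exists_succAbove_eq h).choose_spec

lemma idx_succAbove (i j : Fin (m + 1)) (hij : i ≠ j) (k : Fin m) : idx i j hij (i.succAbove k) = k :=
  Fin.succAbove_right_injective (idx_ne i j hij (Fin.succAbove_ne i k))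

lemma idx_other (i j : Fin (m + 1)) (hij : i ≠ j) : idx i j hij i = idx i j hij j :=
  Fin.succAbove_right_injective ((idx_self i j hij).trans (idx_ne i j hij hij.symm).symm)

/-- The diagonal `x_i = x_j`. -/
noncomputable def δ (i j : Fin (m + 1)) (hij : i ≠ j) : SymProd.fibPow f m ⟶ SymProd.fibPow f (m + 1) :=
  lift f (base f m) (fun k => pr f (idx i j hij k)) (fun _ => pr_comp f _)

/-- The projection forgetting the `i`-th factor. -/
noncomputable def forget (i : Fin (m + 1)) : SymProd.fibPow f (m + 1) ⟶ SymProd.fibPow f m :=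
  lift f (base f (m + 1)) (fun k => pr f (i.succAbove k)) (fun _ => pr_comp f _)

@[reassoc (attr := simp)]
lemma δ_pr (i j : Fin (m + 1)) (hij : i ≠ j) (k : Fin (m + 1)) :
    δ f i j hij ≫ pr f k = pr f (idx i j hij k) := lift_pr _ _ _ _ k

@[reassoc (attr := simp)]
lemma δ_base (i j : Fin (m + 1)) (hij : i ≠ j) : δ f i j hij ≫ base f (m + 1) = base f m :=
  lift_base _ _ _ _

@[reassoc (attr := simp)]
lemma forget_pr (i : Fin (m + 1)) (k : Fin m) : forget f i ≫ pr f k = pr f (i.succAbove k) :=
  lift_pr _ _ _ _ k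

@[reassoc (attr := simp)]
lemma forget_base (i : Fin (m + 1)) : forget f i ≫ base f m = base f (m + 1) :=
  lift_base _ _ _ _

@[reassoc (attr := simp)]
lemma δ_forget (i j : Fin (m + 1)) (hij : i ≠ j) : δ f i j hij ≫ forget f i = 𝟙 _ := by
  apply hom_ext
  · intro k
    rw [Category.assoc, forget_pr, δ_pr, idx_succAbove, Category.id_comp]
  · rw [Category.assoc, forget_base, δ_base, Category.id_comp]

lemma δ_pr_eq (i j : Fin (m + 1)) (hij : i ≠ j) : δ f i j hij ≫ pr f i = δ f i j hij ≫ pr f j := by
  rw [δ_pr, δ_pr, idx_other]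

/-- A morphism with `a_i = a_j` factors through the diagonal. -/
lemma eq_comp_δ (i j : Fin (m + 1)) (hij : i ≠ j) {T : Scheme.{u}} (a : T ⟶ SymProd.fibPow f (m + 1))
    (h : a ≫ pr f i = a ≫ pr f j) : a = (a ≫ forget f i) ≫ δ f i j hij := by
  apply hom_ext
  · intro k
    rw [Category.assoc, δ_pr, Category.assoc, forget_pr]
    by_cases hk : k = i
    · subst hk
      rw [idx_self, h]
    · rw [idx_ne i j hij hk]
  · rw [Category.assoc, δ_base, Category.assoc, forget_base]

instance isClosedImmersion_δ [IsSeparated f] (i j : Fin (m + 1)) (hij : i ≠ j) :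
    IsClosedImmersion (δ f i j hij) := by
  have : IsSeparated (forget f i) := by
    have : IsSeparated (forget f i ≫ base f m) := by rw [forget_base]; infer_instance
    exact IsSeparated.of_comp _ (base f m)
  have h : IsClosedImmersion (δ f i j hij ≫ forget f i) := by rw [δ_forget]; infer_instance
  exact IsClosedImmersion.of_comp (δ f i j hij) (forget f i)

/-- The big diagonal. -/
def bigDiag (n : ℕ) : Set (SymProd.fibPow f (n + 1)) :=
  ⋃ (i : Fin (n + 1)) (j : Fin (n + 1)) (hij : i ≠ j), Set.range (δ f i j hij)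

lemma isClosed_bigDiag [IsSeparated f] (n : ℕ) : IsClosed (bigDiag f n) := by
  refine isClosed_iUnion_of_finite fun i => isClosed_iUnion_of_finite fun j =>
    isClosed_iUnion_of_finite fun hij => ?_
  exact (δ f i j hij).isClosedEmbedding.isClosed_range

lemma mem_bigDiag {n : ℕ} {x : SymProd.fibPow f (n + 1)} :
    x ∈ bigDiag f n ↔ ∃ (i j : Fin (n + 1)) (hij : i ≠ j) (w : SymProd.fibPow f n), δ f i j hij w = x := by
  simp only [bigDiag, Set.mem_iUnion, Set.mem_range]

/-- A point of the big diagonal has two equal components. -/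
lemma not_injective_of_mem {n : ℕ} {x : SymProd.fibPow f (n + 1)} (hx : x ∈ bigDiag f n) :
    ¬ Function.Injective (fun i : Fin (n + 1) => pr f i x) := by
  obtain ⟨i, j, hij, w, rfl⟩ := (mem_bigDiag f).1 hx
  intro h
  apply hij
  apply h
  have e := congrArg (fun φ => φ w) (δ_pr_eq f i j hij)
  exact e

/-- The points of a morphism `a` with `a_i = a_j`, `i ≠ j`, lie in the big diagonal. -/
lemma mem_of_eq {n : ℕ} {i j : Fin (n + 1)} (hij : i ≠ j) {T : Scheme.{u}}
    (a : T ⟶ SymProd.fibPow f (n + 1)) (h : a ≫ pr f i = a ≫ pr f j) (t : T) : a t ∈ bigDiag f n := by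
  rw [mem_bigDiag]
  refine ⟨i, j, hij, (a ≫ forget f i) t, ?_⟩
  conv_rhs => rw [eq_comp_δ f i j hij a h]
  rfl

/-- Fixed geometric points of a nontrivial permutation lie in the big diagonal. -/
lemma mem_of_fixed {n : ℕ} {σ : Equiv.Perm (Fin (n + 1))} (hσ : σ ≠ 1) {T : Scheme.{u}}
    (a : T ⟶ SymProd.fibPow f (n + 1)) (h : a ≫ SymProd.permHom f (n + 1) σ = a) (t : T) :
    a t ∈ bigDiag f n := by
  obtain ⟨i, hi⟩ : ∃ i, σ i ≠ i := by
    by_contra! hc
    exact hσ (Equiv.ext hc)
  refine mem_of_eq f hi a ?_ t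
  have h1 := congrArg (· ≫ pr f (σ i)) h
  simp only [Category.assoc] at h1
  rw [← h1]
  congr 1
  rw [pr, pr, SymProd.permHom_π, Equiv.symm_apply_apply]

end K992.BigDiag
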