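import Groth.Agent.SymProd.K992.FibPow
import Groth.Agent.Sga1.QuotBasic
import Groth.Agent.Sga1.QuotAffine
import Groth.Agent.S2127

/-!
# Affine charts of fibre powers and of symmetric products
-/

set_option autoImplicit false
set_option backward.isDefEq.respectTransparency false
universe u

open CategoryTheory CategoryTheory.Limits AlgebraicGeometry

namespace K992.Charts

open K992.FibPow Groth.Agent.Sga1.QuotBasic

variable {X S : Scheme.{u}} (f : X ⟶ S)

section AF

variable {f}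

/-- A finite set of points over one point is contained in small affine opens. -/
theorem exists_affine_le (hAF : SymProd.IsAF f) (s : S) (T : Finset X) (hT : ∀ x ∈ T, f x = s)
    (V : S.Opens) (hs : s ∈ V) :
    ∃ U : X.Opens, IsAffineOpen U ∧ U ≤ f ⁻¹ᵁ V ∧ ∀ x ∈ T, x ∈ U := by
  obtain ⟨U₀, hU₀, hTU⟩ := hAF s T hT
  have : IsAffine (U₀ : Scheme.{u}) := hU₀
  have : (U₀ : Scheme.{u}).IsQuasiAffine := inferInstance
  obtain ⟨a, ha1, ha2, ha3⟩ := Groth.Agent.S2127.exists_basicOpen (X := (U₀ : Scheme.{u}))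
    (U₀.ι ⁻¹ᵁ (f ⁻¹ᵁ V)) (U₀.ι ⁻¹' (T : Set X))
    (T.finite_toSet.preimage U₀.ι.isOpenEmbedding.injective.injOn) (by
      intro x hx
      change f (U₀.ι x) ∈ V
      rw [hT _ hx]; exact hs)
  refine ⟨U₀.ι ''ᵁ ((U₀ : Scheme.{u}).basicOpen a), ha1.image_of_isOpenImmersion _, ?_, ?_⟩
  · rintro _ ⟨x, hx, rfl⟩
    exact ha3 hx
  · intro x hx
    exact ⟨⟨x, hTU x hx⟩, ha2 hx, rfl⟩

end AF

variable {f} in
lemma base_apply {n : ℕ} (x : SymProd.fibPow f n) (i : Fin n) : f (pr f i x) = base f n x := by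
  rw [← pr_comp f i]; rfl

/-- The fibre power of `U` over `V`. -/
noncomputable def box (n : ℕ) (U : X.Opens) (V : S.Opens) : (SymProd.fibPow f n).Opens where
  carrier := {x | base f n x ∈ V} ∩ ⋂ i : Fin n, {x | pr f i x ∈ U}
  is_open' := by
    refine IsOpen.inter (V.2.preimage (base f n).continuous) (isOpen_iInter_of_finite fun i => ?_)
    exact U.2.preimage (pr f i).continuous

variable {f}

lemma mem_box {n : ℕ} {U : X.Opens} {V : S.Opens} {x : SymProd.fibPow f n} :
    x ∈ box f n U V ↔ base f n x ∈ V ∧ ∀ i, pr f i x ∈ U := by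
  change x ∈ {x | base f n x ∈ V} ∩ ⋂ i : Fin n, {x | pr f i x ∈ U} ↔ _
  simp

lemma base_permHom (n : ℕ) (σ : Equiv.Perm (Fin n)) (x : SymProd.fibPow f n) :
    base f n (SymProd.permHom f n σ x) = base f n x := by
  rw [← Scheme.Hom.comp_apply, SymProd.permHom_base]

lemma pr_permHom (n : ℕ) (σ : Equiv.Perm (Fin n)) (x : SymProd.fibPow f n) (i : Fin n) :
    pr f i (SymProd.permHom f n σ x) = pr f (σ.symm i) x := by
  rw [← Scheme.Hom.comp_apply, SymProd.permHom_π]

lemma permHom_mem_box {n : ℕ} {U : X.Opens} {V : S.Opens} {x : SymProd.fibPow f n}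
    (σ : Equiv.Perm (Fin n)) : SymProd.permHom f n σ x ∈ box f n U V ↔ x ∈ box f n U V := by
  rw [mem_box, mem_box, base_permHom]
  simp only [pr_permHom]
  refine and_congr_right fun _ => ⟨fun h i => ?_, fun h i => h _⟩
  have := h (σ i)
  rwa [Equiv.symm_apply_apply] at this

lemma preimage_box {n : ℕ} {U : X.Opens} {V : S.Opens} (σ : Equiv.Perm (Fin n)) :
    (SymProd.permHom f n σ) ⁻¹ᵁ box f n U V = box f n U V := by
  ext x
  exact permHom_mem_box σ

lemma coe_box_of_pos {n : ℕ} (hn : 0 < n) {U : X.Opens} {V : S.Opens} (h : U ≤ f ⁻¹ᵁ V) :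
    (box f n U V : Set (SymProd.fibPow f n)) = ⋂ i : Fin n, (pr f i) ⁻¹' (U : Set X) := by
  ext x
  change x ∈ box f n U V ↔ _
  rw [mem_box, Set.mem_iInter]
  refine ⟨fun h => h.2, fun h' => ⟨?_, h'⟩⟩
  rw [← base_apply x ⟨0, hn⟩]
  exact h (h' _)

/-- Every point of the fibre power lies in a box. -/
theorem exists_mem_box (hAF : SymProd.IsAF f) {n : ℕ} (x : SymProd.fibPow f n) (V : S.Opens)
    (hV : base f n x ∈ V) :
    ∃ U : X.Opens, IsAffineOpen U ∧ U ≤ f ⁻¹ᵁ V ∧ x ∈ box f n U V := by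
  classical
  obtain ⟨U, hU, hUV, hT⟩ := exists_affine_le hAF (base f n x)
    (Finset.univ.image (fun i => pr f i x)) (by
      intro y hy
      obtain ⟨i, -, rfl⟩ := Finset.mem_image.1 hy
      exact base_apply x i) V hV
  refine ⟨U, hU, hUV, ?_⟩
  rw [mem_box]
  exact ⟨hV, fun i => hT _ (Finset.mem_image_of_mem _ (Finset.mem_univ i))⟩

end K992.Charts
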