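import Groth.Agent.SymProd.K992.FibPow
import Groth.Agent.S1171
import Groth.Agent.S1173
import Groth.Agent.Picfga.SecGraph
import Groth.Agent.Picfga.HilbZero
import Groth.Agent.Etdl.H427.RankComp

/-!
# The map `X^n ⟶ Hilb^n` of a smooth relative curve is finite locally free of degree `n!`
-/

set_option autoImplicit false
set_option backward.isDefEq.respectTransparency false
universe u

open CategoryTheory CategoryTheory.Limits AlgebraicGeometry

namespace K992.DivMap

open Groth.Agent.Picfga.HilbPull Groth.Agent.Picfga.SecGraph Groth.Agent.Picfga.HilbZero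
open K992.FibPow

variable {X S : Scheme.{u}} (f : X ⟶ S)

/-- The fibre power as an object over `S`. -/
noncomputable abbrev powOver (n : ℕ) : Over S := Over.mk (base f n)

/-- The sum of the graphs of a family of `T`-points. -/
noncomputable def sumGraph {n : ℕ} (T : Over S) (x : Fin n → (T.left ⟶ X))
    (hx : ∀ i, x i ≫ f = T.hom) : (PicF.XT f T).IdealSheafData :=
  ∏ i, HilbD.secGraph f T (x i) (hx i)

lemma sumGraph_succ {n : ℕ} (T : Over S) (x : Fin (n + 1) → (T.left ⟶ X))
    (hx : ∀ i, x i ≫ f = T.hom) :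
    sumGraph f T x hx = sumGraph f T (fun i : Fin n => x i.castSucc) (fun i => hx _) *
      HilbD.secGraph f T (x (Fin.last n)) (hx _) :=
  Fin.prod_univ_castSucc _

/-- reindexing the points -/
lemma sumGraph_perm {n : ℕ} (T : Over S) (x : Fin n → (T.left ⟶ X))
    (hx : ∀ i, x i ≫ f = T.hom) (σ : Equiv.Perm (Fin n)) :
    sumGraph f T (fun i => x (σ i)) (fun i => hx _) = sumGraph f T x hx :=
  Equiv.prod_comp σ (fun i => HilbD.secGraph f T (x i) (hx i))

lemma sumGraph_congr {n : ℕ} (T : Over S) {x y : Fin n → (T.left ⟶ X)} (h : x = y)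
    (hx : ∀ i, x i ≫ f = T.hom) (hy : ∀ i, y i ≫ f = T.hom) :
    sumGraph f T x hx = sumGraph f T y hy := by
  subst h; rfl

lemma pull_one {T T' : Over S} (g : T' ⟶ T) :
    HilbD.pull f g (1 : (PicF.XT f T).IdealSheafData) = 1 := by
  change HilbD.pull f g (⊤ : (PicF.XT f T).IdealSheafData) = ⊤
  exact obj_zero_eq_top f (pullObj f g (topObj f T))

lemma pull_sumGraph [IsSeparated f] {n : ℕ} {T T' : Over S} (g : T' ⟶ T)
    (x : Fin n → (T.left ⟶ X)) (hx : ∀ i, x i ≫ f = T.hom) :
    HilbD.pull f g (sumGraph f T x hx) =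
      sumGraph f T' (fun i => g.left ≫ x i) (fun i => hx_comp f (x i) g (hx i)) := by
  induction n with
  | zero => exact pull_one f g
  | succ n ih =>
    rw [sumGraph_succ, sumGraph_succ, pull_mul, ih, pull_secGraph]

lemma isFinLocFreeOfDeg_sumGraph [SmoothOfRelativeDimension 1 f] [IsSeparated f] {n : ℕ}
    (T : Over S) (x : Fin n → (T.left ⟶ X)) (hx : ∀ i, x i ≫ f = T.hom) :
    Mor2.IsFinLocFreeOfDeg n ((sumGraph f T x hx).subschemeι ≫ PicF.XTproj f T) := by
  induction n with
  | zero => exact (topObj f T).2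
  | succ n ih =>
    have := smoothOfRelativeDimension_isStableUnderBaseChange.{u} 1
    have : SmoothOfRelativeDimension 1 (PicF.XTproj f T) :=
      MorphismProperty.pullback_snd (P := @SmoothOfRelativeDimension 1) f T.hom ‹_›
    rw [sumGraph_succ]
    exact Groth.Agent.S1171.result (PicF.XTproj f T) _ _ n 1 (ih _ _)
      (isFinLocFreeOfDeg_secGraph f _ _)

/-- The sum of the graphs as an element of `Hilb^n`. -/
noncomputable def sumObj [SmoothOfRelativeDimension 1 f] [IsSeparated f] {n : ℕ}
    (T : Over S) (x : Fin n → (T.left ⟶ X)) (hx : ∀ i, x i ≫ f = T.hom) : HilbD.Obj f n T :=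
  ⟨sumGraph f T x hx, isFinLocFreeOfDeg_sumGraph f T x hx⟩

/-- The tautological divisor on `X^n`. -/
noncomputable def taut (n : ℕ) : (PicF.XT f (powOver f n)).IdealSheafData :=
  sumGraph f (powOver f n) (fun i => pr f i) (fun i => pr_comp f i)

/-- Composition of finite locally free morphisms. -/
lemma isFinLocFreeOfDeg_comp {A B D : Scheme.{u}} {a : A ⟶ B} {b : B ⟶ D} {m n : ℕ}
    (ha : Mor2.IsFinLocFreeOfDeg m a) (hb : Mor2.IsFinLocFreeOfDeg n b) :
    Mor2.IsFinLocFreeOfDeg (m * n) (a ≫ b) := by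
  obtain ⟨⟨a1, a2, a3⟩, a4⟩ := ha
  obtain ⟨⟨b1, b2, b3⟩, b4⟩ := hb
  refine ⟨⟨inferInstance, inferInstance, inferInstance⟩, fun y => ?_⟩
  rw [Groth.Agent.Etdl.H427.RankComp.finrank_comp a b m a4, b4]

/-- An isomorphism is finite locally free of degree one. -/
lemma isFinLocFreeOfDeg_one_of_isIso {A B : Scheme.{u}} (a : A ⟶ B) [IsIso a] :
    Mor2.IsFinLocFreeOfDeg 1 a := by
  refine ⟨⟨inferInstance, inferInstance, inferInstance⟩, fun y => ?_⟩
  rw [Scheme.Hom.finrank_eq_one_of_isIso]
  rfl

/-- The classifying map of the tautological divisor on `X^n` is finite locally free of degree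
`n!`. -/
theorem isFinLocFreeOfDeg_factorial [SmoothOfRelativeDimension 1 f] [IsSeparated f]
    (hrep : ∀ e : ℕ, HilbD.Representable f e) (n : ℕ) (H : Over S) (Z : HilbD.Obj f n H)
    (hZ : HilbD.IsUniversal f n H Z) (φ : powOver f n ⟶ H)
    (hφ : HilbD.pull f φ Z.1 = taut f n) : Mor2.IsFinLocFreeOfDeg n.factorial φ.left := by
  induction n generalizing H with
  | zero =>
    have h1 := isIso_hom_of_isUniversal_zero f hZ
    have h2 := isIso_base_zero f
    have h3 : φ.left ≫ H.hom = base f 0 := Over.w φ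
    have h4 : IsIso (φ.left ≫ H.hom) := by rw [h3]; exact h2
    have : IsIso φ.left := IsIso.of_isIso_comp_right φ.left H.hom
    exact isFinLocFreeOfDeg_one_of_isIso _
  | succ n ih =>
    obtain ⟨H₀, Z₀, hZ₀⟩ := hrep n
    obtain ⟨φ₀, hφ₀, -⟩ := hZ₀ (powOver f n) (sumObj f _ (fun i => pr f i) (fun i => pr_comp f i))
    have ih₀ := ih H₀ Z₀ hZ₀ φ₀ hφ₀
    let T : Over S := Over.mk (pullback.fst H₀.hom f ≫ H₀.hom)
    let p : T ⟶ H₀ := Over.homMk (pullback.fst H₀.hom f) rfl
    let x : T.left ⟶ X := pullback.snd H₀.hom f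
    have hx : x ≫ f = T.hom := pullback.condition.symm
    have := smoothOfRelativeDimension_isStableUnderBaseChange.{u} 1
    have : SmoothOfRelativeDimension 1 (PicF.XTproj f T) :=
      MorphismProperty.pullback_snd (P := @SmoothOfRelativeDimension 1) f T.hom ‹_›
    have hI := Groth.Agent.S1171.result (PicF.XTproj f T) (HilbD.pull f p Z₀.1)
      (HilbD.secGraph f T x hx) n 1 (isFinLocFreeOfDeg_pull f p Z₀.2)
      (isFinLocFreeOfDeg_secGraph f x hx)
    obtain ⟨m, hm, -⟩ := hZ T ⟨_, hI⟩
    have hfin := Groth.Agent.S1173.result f n H₀ Z₀ hZ₀ H Z hZ m hm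
    -- the map `X^(n+1) ⟶ H₀ ×_S X`
    have hw : (init f n ≫ φ₀.left) ≫ H₀.hom = pr f (Fin.last n) ≫ f := by
      rw [Category.assoc]
      have := Over.w φ₀
      change φ₀.left ≫ H₀.hom = base f n at this
      rw [this, init_base, pr_comp]
    let a : SymProd.fibPow f (n + 1) ⟶ pullback H₀.hom f :=
      pullback.lift (init f n ≫ φ₀.left) (pr f (Fin.last n)) hw
    have ha1 : a ≫ pullback.fst H₀.hom f = init f n ≫ φ₀.left := pullback.lift_fst _ _ _
    have ha2 : a ≫ pullback.snd H₀.hom f = pr f (Fin.last n) := pullback.lift_snd _ _ _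
    have hpb : IsPullback (init f n) a φ₀.left (pullback.fst H₀.hom f) := by
      refine IsPullback.of_bot (v₂₁ := pullback.snd H₀.hom f) (v₂₂ := H₀.hom) (h₃₁ := f) ?_ ha1.symm
        (IsPullback.of_hasPullback H₀.hom f)
      rw [ha2]
      have : φ₀.left ≫ H₀.hom = base f n := Over.w φ₀
      rw [this]
      exact isPullback_init f n
    have ha : Mor2.IsFinLocFreeOfDeg n.factorial a := isFinLocFreeOfDeg_of_isPullback hpb ih₀
    have hcomp : φ.left = a ≫ m.left := by
      let a' : powOver f (n + 1) ⟶ T := Over.homMk a (by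
        change a ≫ pullback.fst H₀.hom f ≫ H₀.hom = base f (n + 1)
        rw [← Category.assoc, ha1, hw, pr_comp])
      let i' : powOver f (n + 1) ⟶ powOver f n := Over.homMk (init f n) (init_base f n)
      have : φ = a' ≫ m := by
        apply hom_ext_of_isUniversal hZ
        have e1 : a' ≫ p = i' ≫ φ₀ := Over.OverMorphism.ext ha1
        rw [hφ, pull_comp, hm]
        change _ = HilbD.pull f a' (HilbD.pull f p Z₀.1 * HilbD.secGraph f T x hx)
        rw [pull_mul, ← pull_comp, e1, pull_comp, hφ₀, pull_secGraph]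
        change _ = HilbD.pull f i' (sumGraph f _ (fun i => pr f i) (fun i => pr_comp f i)) * _
        rw [pull_sumGraph]
        change sumGraph f (powOver f (n + 1)) (fun i => pr f i) (fun i => pr_comp f i) = _
        rw [sumGraph_succ]
        congr 1
        · exact sumGraph_congr f _ (funext fun i => (init_pr f i).symm) _ _
        · exact secGraph_congr f ha2.symm _ _
      rw [this]; rfl
    rw [hcomp, Nat.factorial_succ, mul_comm]
    exact isFinLocFreeOfDeg_comp ha hfin

end K992.DivMap
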