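import Groth.Agent.SymProd.K992.RingInv
import Groth.Agent.Sga1.QuotBasic
import Groth.Agent.Divis.CartierCompl
import Groth.Agent.PerfC.FinitePush
import Groth.Prelude.Def_Mor2
import Groth.Prelude.Def_BlowUp2

/-!
# A criterion for a finite locally free morphism to be a quotient by a finite group
-/

set_option autoImplicit false
set_option backward.isDefEq.respectTransparency false
universe u

open CategoryTheory CategoryTheory.Limits AlgebraicGeometry

namespace K992.QuotCrit

open Groth.Agent.Sga1.QuotBasic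

variable {P H : Scheme.{u}}

/-- A section killed after multiplication by powers of the sections of the ideal of an effective
Cartier divisor is zero. -/
lemma eq_zero_of_ideal {E : P.IdealSheafData} (hE : BlowUp.IsEffCartierIdeal E)
    (U : P.affineOpens) (b : Γ(P, U.1))
    (hb : ∀ h ∈ E.ideal U, ∃ n : ℕ, h ^ n * b = 0) : b = 0 := by
  have hdom := Groth.Agent.Divis.CartierCompl.isSchemeTheoreticallyDominant_compl hE
  have haff := Groth.Agent.Divis.CartierCompl.isAffineHom_compl hE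
  apply (Scheme.Opens.ι (X := P) E.support.compl).app_injective U.1
  rw [map_zero]
  let W : P.Opens := U.1 ⊓ E.support.compl
  -- restriction to the complement of the support vanishes
  have hW : (P.presheaf.map (homOfLE (inf_le_left : W ≤ U.1)).op).hom b = 0 := by
    have hcov : ∀ y : W, ∃ h : E.ideal U, y.1 ∈ P.basicOpen h.1 := by
      rintro ⟨y, hyU, hyE⟩
      by_contra hcon
      push Not at hcon
      apply hyE
      change y ∈ E.support
      rw [Scheme.IdealSheafData.mem_support_iff_of_mem hyU]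
      rw [Scheme.mem_zeroLocus_iff]
      intro h hh
      exact hcon ⟨h, hh⟩
    choose h hh using hcov
    refine TopCat.Sheaf.eq_of_locally_eq' P.sheaf (fun y : W => W ⊓ P.basicOpen (h y).1) W
      (fun y => homOfLE inf_le_left)
      (fun y hy => TopologicalSpace.Opens.mem_iSup.mpr ⟨⟨y, hy⟩, hy, hh ⟨y, hy⟩⟩) _ 0 (fun y => ?_)
    obtain ⟨n, hn⟩ := hb (h y).1 (h y).2
    have h1 : (P.presheaf.map (homOfLE (P.basicOpen_le (h y).1)).op).hom b = 0 := by
      have : IsLocalization.Away (h y).1 Γ(P, P.basicOpen (h y).1) :=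
        U.2.isLocalization_basicOpen _
      exact (IsLocalization.map_eq_zero_iff (Submonoid.powers (h y).1)
        Γ(P, P.basicOpen (h y).1) b).2 ⟨⟨_, n, rfl⟩, hn⟩
    change (P.presheaf.map _).hom ((P.presheaf.map _).hom b) = (P.presheaf.map _).hom 0
    rw [map_zero, ← CommRingCat.comp_apply, ← P.presheaf.map_comp]
    have h2 := congrArg (P.presheaf.map (homOfLE (inf_le_right :
      W ⊓ P.basicOpen (h y).1 ≤ P.basicOpen (h y).1)).op).hom h1
    rw [map_zero, ← CommRingCat.comp_apply, ← P.presheaf.map_comp] at h2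
    exact h2
  rw [Scheme.Opens.ι_app]
  have hle : (Scheme.Opens.ι (X := P) E.support.compl) ''ᵁ
      ((Scheme.Opens.ι (X := P) E.support.compl) ⁻¹ᵁ U.1) ≤ W := by
    rintro y ⟨z, hz, rfl⟩
    exact ⟨hz, z.2⟩
  have h3 := congrArg (P.presheaf.map (homOfLE hle).op).hom hW
  rw [map_zero, ← CommRingCat.comp_apply, ← P.presheaf.map_comp] at h3
  exact h3

variable {G : Type u} [Group G] (ρ : G →* Aut P)

/-- The sections of `E` lie in the radical of the ideal of coincidence of two group elements. -/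
lemma mem_radical {U : P.Opens} (hU : IsAffineOpen U) (hst : Stable ρ U) (E : P.IdealSheafData)
    (g g' : G)
    (hsep : ∀ (K : Type u) [Field K] (z : Spec (CommRingCat.of K) ⟶ P),
      z ≫ (ρ g).hom = z ≫ (ρ g').hom → ∀ t, z t ∈ E.support)
    (h : Γ(P, U)) (hh : h ∈ E.ideal ⟨U, hU⟩) :
    h ∈ (Ideal.span (Set.range fun b => (act ρ hst g).hom b - (act ρ hst g').hom b)).radical := by
  rw [Ideal.radical_eq_sInf, Submodule.mem_sInf]
  rintro (Q : Ideal Γ(P, U)) ⟨hQ, hQp⟩
  have := hQp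
  let K : Type u := Q.ResidueField
  let φ : Γ(P, U) ⟶ CommRingCat.of K := CommRingCat.ofHom (algebraMap Γ(P, U) K)
  let z : Spec (CommRingCat.of K) ⟶ P := Spec.map φ ≫ hU.fromSpec
  have key : ∀ k : G, z ≫ (ρ k).hom = Spec.map (act ρ hst k ≫ φ) ≫ hU.fromSpec := by
    intro k
    rw [Spec.map_comp, Category.assoc, Category.assoc]
    congr 1
    exact (hU.SpecMap_appLE_fromSpec (ρ k).hom hU (hst k)).symm
  have h1 : z ≫ (ρ g).hom = z ≫ (ρ g').hom := by
    rw [key, key]
    congr 2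
    ext b
    change algebraMap Γ(P, U) K ((act ρ hst g).hom b) = algebraMap Γ(P, U) K ((act ρ hst g').hom b)
    rw [← sub_eq_zero, ← map_sub]
    rw [Ideal.algebraMap_residueField_eq_zero]
    exact hQ (Ideal.subset_span ⟨b, rfl⟩)
  let t : Spec (CommRingCat.of K) := IsLocalRing.closedPoint K
  have h2 := hsep K z h1 t
  have h3 : z t ∈ U := by
    have := hU.range_fromSpec
    exact this.le ⟨Spec.map φ t, rfl⟩
  rw [Scheme.IdealSheafData.mem_support_iff_of_mem (U := ⟨U, hU⟩) h3,
    Scheme.mem_zeroLocus_iff] at h2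
  have h4 := h2 h hh
  have h5 : Spec.map φ t ∉ hU.fromSpec ⁻¹ᵁ P.basicOpen h := h4
  rw [hU.fromSpec_preimage_basicOpen] at h5
  have h6 : h ∈ (Spec.map φ t).asIdeal := by
    by_contra hcon
    exact h5 hcon
  have h7 : φ.hom h ∈ t.asIdeal := h6
  have h8 : φ.hom h = 0 := by
    by_contra hcon
    have : IsUnit (φ.hom h) := isUnit_iff_ne_zero.2 hcon
    exact t.isPrime.ne_top (Ideal.eq_top_of_isUnit_mem _ h7 this)
  exact Ideal.algebraMap_residueField_eq_zero.1 h8

variable {ρ} {p : P ⟶ H}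

/-- Over an affine open of the target a finite locally free invariant morphism of degree `#G`
is a quotient. -/
theorem quotOn_of_isFinLocFreeOfDeg [Fintype G]
    (hp : Mor2.IsFinLocFreeOfDeg (Fintype.card G) p) (hinv : ∀ g : G, (ρ g).hom ≫ p = p)
    {E : P.IdealSheafData} (hE : BlowUp.IsEffCartierIdeal E)
    (hsep : ∀ (K : Type u) [Field K] (z : Spec (CommRingCat.of K) ⟶ P) (g g' : G), g ≠ g' →
      z ≫ (ρ g).hom = z ≫ (ρ g').hom → ∀ t, z t ∈ E.support)
    (V : H.Opens) (hV : IsAffineOpen V) : QuotOn hinv V := by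
  obtain ⟨⟨h1, h2, h3⟩, h4⟩ := hp
  let : Algebra Γ(H, V) Γ(P, p ⁻¹ᵁ V) := (p.app V).hom.toAlgebra
  have hmap : algebraMap Γ(H, V) Γ(P, p ⁻¹ᵁ V) = (p.app V).hom := rfl
  have hfin : Module.Finite Γ(H, V) Γ(P, p ⁻¹ᵁ V) := p.finite_app V hV
  have hflat : Module.Flat Γ(H, V) Γ(P, p ⁻¹ᵁ V) := by
    have := p.flat_appLE hV (hV.preimage p) le_rfl
    rw [← Scheme.Hom.app_eq_appLE] at this
    exact this
  have hfp : Algebra.FinitePresentation Γ(H, V) Γ(P, p ⁻¹ᵁ V) := by
    have := p.finitePresentation_appLE hV (hV.preimage p) le_rfl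
    rw [← Scheme.Hom.app_eq_appLE] at this
    exact this
  have hfpm : Module.FinitePresentation Γ(H, V) Γ(P, p ⁻¹ᵁ V) :=
    Module.FinitePresentation.of_finite_of_finitePresentation _ _
  have hproj : Module.Projective Γ(H, V) Γ(P, p ⁻¹ᵁ V) := Module.Flat.projective_of_finitePresentation
  have hrank : ∀ q : PrimeSpectrum Γ(H, V),
      Module.rankAtStalk (R := Γ(H, V)) Γ(P, p ⁻¹ᵁ V) q = Fintype.card G := by
    intro q
    have h5 := Scheme.Hom.finrank_of_isPullback _ _ _ _
      (Groth.Agent.PerfC.FinitePush.isPullback_fromSpec p hV) q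
    rw [h4] at h5
    rw [← h5]
    exact (Scheme.Hom.finrank_SpecMap_algebraMap Γ(H, V) Γ(P, p ⁻¹ᵁ V) q).symm
  have hff : Module.FaithfullyFlat Γ(H, V) Γ(P, p ⁻¹ᵁ V) := by
    apply Module.FaithfullyFlat.of_comap_surjective
    intro q
    have h6 : 0 < Module.rankAtStalk (R := Γ(H, V)) Γ(P, p ⁻¹ᵁ V) q := by
      rw [hrank q]; exact Fintype.card_pos
    exact (PrimeSpectrum.rankAtStalk_pos_iff_mem_range_comap q).1 h6
  let a : G → (Γ(P, p ⁻¹ᵁ V) →ₐ[Γ(H, V)] Γ(P, p ⁻¹ᵁ V)) := fun g =>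
    { (act ρ (stable_preimage hinv V) g).hom with
      commutes' := fun r => act_app_apply hinv V g r }
  refine ⟨FaithfulSMul.algebraMap_injective Γ(H, V) Γ(P, p ⁻¹ᵁ V), fun s hs => ?_⟩
  refine K992.RingInv.mem_range_of_fixed a hrank
    (fun h : E.ideal ⟨p ⁻¹ᵁ V, hV.preimage p⟩ => h.1) ?_ ?_ s hs
  · rintro ⟨h, hh⟩ σ τ hne
    exact mem_radical ρ (hV.preimage p) (stable_preimage hinv V) E σ τ
      (fun K _ z hz t => hsep K z σ τ hne hz t) h hh
  · intro b hb
    exact eq_zero_of_ideal hE ⟨p ⁻¹ᵁ V, hV.preimage p⟩ b (fun h hh => hb ⟨h, hh⟩)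

/-- **Criterion**: an invariant finite locally free morphism of degree `#G` on whose source the
coincidence loci of the group elements lie in the support of an effective Cartier divisor is
the quotient by `G`. -/
theorem isQuot_of_isFinLocFreeOfDeg [Fintype G]
    (hp : Mor2.IsFinLocFreeOfDeg (Fintype.card G) p) (hinv : ∀ g : G, (ρ g).hom ≫ p = p)
    {E : P.IdealSheafData} (hE : BlowUp.IsEffCartierIdeal E)
    (hsep : ∀ (K : Type u) [Field K] (z : Spec (CommRingCat.of K) ⟶ P) (g g' : G), g ≠ g' →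
      z ≫ (ρ g).hom = z ≫ (ρ g').hom → ∀ t, z t ∈ E.support) : SGA1.IsQuot ρ p := by
  have := hp.1.1
  refine isQuot_of_affine_cover hinv fun y => ?_
  obtain ⟨_, ⟨V, hV, rfl⟩, hy, -⟩ := H.isBasis_affineOpens.exists_subset_of_mem_open
    (Set.mem_univ y) isOpen_univ
  exact ⟨V, hy, hV, quotOn_of_isFinLocFreeOfDeg hp hinv hE hsep V hV⟩

end K992.QuotCrit
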