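import Groth.Agent.SymProd.K992.DivMap
import Groth.Agent.SymProd.K992.QuotCrit
import Groth.Agent.S1184
import Groth.Agent.Divis.IdealComap
import Groth.Agent.Divis.EffCartier

/-!
# The map `X^n ⟶ Hilb^n` of a smooth relative curve is the quotient by the symmetric group
-/

set_option autoImplicit false
set_option backward.isDefEq.respectTransparency false
universe u

open CategoryTheory CategoryTheory.Limits AlgebraicGeometry

namespace K992.DivQuot

open Groth.Agent.Picfga.HilbPull Groth.Agent.Picfga.SecGraph Groth.Agent.Picfga.HilbZero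
open K992.FibPow K992.DivMap

variable {X S : Scheme.{u}} (f : X ⟶ S)

/-- `X^(n+1) ⟶ X ×_S X^n` -/
noncomputable def toXT (n : ℕ) : SymProd.fibPow f (n + 1) ⟶ PicF.XT f (powOver f n) :=
  pullback.lift (pr f (Fin.last n)) (init f n) (by
    change _ = init f n ≫ base f n
    rw [pr_comp, init_base])

lemma toXT_fst (n : ℕ) : toXT f n ≫ pullback.fst f (powOver f n).hom = pr f (Fin.last n) :=
  pullback.lift_fst _ _ _

lemma toXT_snd (n : ℕ) : toXT f n ≫ pullback.snd f (powOver f n).hom = init f n :=
  pullback.lift_snd _ _ _

instance isIso_toXT (n : ℕ) : IsIso (toXT f n) := by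
  have h := (isPullback_init f n).flip
  have : toXT f n = h.isoPullback.hom := by
    apply pullback.hom_ext
    · rw [toXT_fst]; exact (h.isoPullback_hom_fst).symm
    · rw [toXT_snd]; exact (h.isoPullback_hom_snd).symm
  rw [this]
  infer_instance

/-- The ideal of the big diagonal. -/
noncomputable def bigDiag : (n : ℕ) → (SymProd.fibPow f n).IdealSheafData
  | 0 => ⊤
  | n + 1 => (bigDiag n).comap (init f n) * (taut f n).comap (toXT f n)

lemma isEff_bigDiag [SmoothOfRelativeDimension 1 f] [IsSeparated f] (n : ℕ) :
    BlowUp.IsEffCartierIdeal (bigDiag f n) := by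
  induction n with
  | zero => exact Groth.Agent.Divis.EffCartier.isEff_top
  | succ n ih =>
    have hsm : Smooth f := SmoothOfRelativeDimension.smooth 1 f
    have : Flat (init f n) := MorphismProperty.of_isPullback (isPullback_init f n).flip inferInstance
    have := smoothOfRelativeDimension_isStableUnderBaseChange.{u} 1
    have : SmoothOfRelativeDimension 1 (PicF.XTproj f (powOver f n)) :=
      MorphismProperty.pullback_snd (P := @SmoothOfRelativeDimension 1) f (powOver f n).hom ‹_›
    have h1 : BlowUp.IsEffCartierIdeal (taut f n) :=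
      ((Groth.Agent.S1184.result (PicF.XTproj f (powOver f n)) (taut f n)).2
        (isFinLocFreeOfDeg_sumGraph f (powOver f n) _ _).1).1
    exact Groth.Agent.Divis.EffCartier.isEff_mul
      (Groth.Agent.Divis.EffCartier.isEff_comap_flat ih _)
      (Groth.Agent.Divis.EffCartier.isEff_comap_flat h1 _)

lemma mem_support_secGraph {T : Over S} (x : T.left ⟶ X) (hx : x ≫ f = T.hom) (t : T.left) :
    sec f T x hx t ∈ (HilbD.secGraph f T x hx).support := by
  have h1 : (HilbD.secGraph f T x hx).comap (sec f T x hx) = ⊥ := comap_ker_self _
  have h2 : t ∈ ((HilbD.secGraph f T x hx).comap (sec f T x hx)).support := by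
    rw [h1]; exact trivial
  rw [Scheme.IdealSheafData.support_comap] at h2
  exact h2

lemma mul_le_left' {Y : Scheme.{u}} (I J : Y.IdealSheafData) : I * J ≤ I := fun U =>
  (Ideal.mul_le_left : I.ideal U * J.ideal U ≤ I.ideal U)

lemma mem_support_taut (n : ℕ) (i : Fin n) (t : SymProd.fibPow f n) :
    sec f (powOver f n) (pr f i) (pr_comp f i) t ∈ (taut f n).support := by
  have h1 : taut f n ≤ HilbD.secGraph f (powOver f n) (pr f i) (pr_comp f i) := by
    unfold taut sumGraph
    rw [← Finset.mul_prod_erase Finset.univ _ (Finset.mem_univ i)]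
    exact mul_le_left' _ _
  exact Scheme.IdealSheafData.support_antitone h1 (mem_support_secGraph f _ _ _)

lemma mem_support_bigDiag_aux (n : ℕ) {T : Scheme.{u}} (z : T ⟶ SymProd.fibPow f (n + 1))
    (j : Fin n) (h : z ≫ pr f j.castSucc = z ≫ pr f (Fin.last n)) (t : T) :
    z t ∈ ((taut f n).comap (toXT f n)).support := by
  have h1 : z ≫ toXT f n = (z ≫ init f n) ≫ sec f (powOver f n) (pr f j) (pr_comp f j) := by
    apply pullback.hom_ext
    · rw [Category.assoc, toXT_fst, Category.assoc, sec_fst, Category.assoc, init_pr, h]
    · rw [Category.assoc, toXT_snd, Category.assoc]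
      erw [sec_proj]
      exact (Category.comp_id _).symm
  rw [Scheme.IdealSheafData.support_comap]
  change toXT f n (z t) ∈ (taut f n).support
  have h2 : toXT f n (z t) = sec f (powOver f n) (pr f j) (pr_comp f j) ((z ≫ init f n) t) := by
    rw [← Scheme.Hom.comp_apply, h1]; rfl
  rw [h2]
  exact mem_support_taut f n j _

/-- A point two of whose components agree lies on the big diagonal. -/
lemma mem_support_bigDiag (n : ℕ) {T : Scheme.{u}} (z : T ⟶ SymProd.fibPow f n)
    (j k : Fin n) (hjk : j ≠ k) (h : z ≫ pr f j = z ≫ pr f k) (t : T) :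
    z t ∈ (bigDiag f n).support := by
  induction n with
  | zero => exact j.elim0
  | succ n ih =>
    rw [bigDiag, Scheme.IdealSheafData.support_mul]
    induction j using Fin.lastCases with
    | last =>
      induction k using Fin.lastCases with
      | last => exact absurd rfl hjk
      | cast k => exact Or.inr (mem_support_bigDiag_aux f n z k h.symm t)
    | cast j =>
      induction k using Fin.lastCases with
      | last => exact Or.inr (mem_support_bigDiag_aux f n z j h t)
      | cast k =>
        left
        rw [Scheme.IdealSheafData.support_comap]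
        have := ih (z ≫ init f n) j k (fun h => hjk (by rw [h])) (by
          rw [Category.assoc, Category.assoc, init_pr, init_pr, h])
        exact this

/-- **The symmetric power of a smooth curve**: the classifying map of the tautological divisor is
the quotient by the symmetric group. -/
theorem isQuot_classifying [SmoothOfRelativeDimension 1 f] [IsSeparated f]
    (hrep : ∀ e : ℕ, HilbD.Representable f e) (n : ℕ) (H : Over S) (Z : HilbD.Obj f n H)
    (hZ : HilbD.IsUniversal f n H Z) (φ : powOver f n ⟶ H)
    (hφ : HilbD.pull f φ Z.1 = taut f n) : SGA1.IsQuot (SymProd.permActU f n) φ.left := by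
  have hdeg := isFinLocFreeOfDeg_factorial f hrep n H Z hZ φ hφ
  have hcard : Fintype.card (ULift.{u} (Equiv.Perm (Fin n))) = n.factorial := by
    rw [Fintype.card_ulift, Fintype.card_perm, Fintype.card_fin]
  rw [← hcard] at hdeg
  refine K992.QuotCrit.isQuot_of_isFinLocFreeOfDeg hdeg ?_ (isEff_bigDiag f n) ?_
  · intro σ
    let s : powOver f n ⟶ powOver f n :=
      Over.homMk (SymProd.permHom f n σ.down) (SymProd.permHom_base f n σ.down)
    have : s ≫ φ = φ := by
      apply hom_ext_of_isUniversal hZ
      rw [pull_comp, hφ]
      change HilbD.pull f s (sumGraph f (powOver f n) (fun i => pr f i) (fun i => pr_comp f i)) = _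
      rw [pull_sumGraph]
      refine (sumGraph_congr f (powOver f n) (y := fun i => pr f (σ.down.symm i)) ?_ _
        (fun i => pr_comp f _)).trans ?_
      · funext i
        exact SymProd.permHom_π f n σ.down i
      · exact sumGraph_perm f (powOver f n) (fun i => pr f i) (fun i => pr_comp f i) σ.down.symm
    exact congrArg (fun m => m.left) this
  · intro K _ z σ τ hne hz t
    have h1 : σ.down.symm ≠ τ.down.symm := by
      intro h
      apply hne
      have h2 : σ.down = τ.down := Equiv.symm_bijective.1 h
      exact ULift.ext _ _ h2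
    obtain ⟨i, hi⟩ : ∃ i, σ.down.symm i ≠ τ.down.symm i := by
      by_contra hcon
      push Not at hcon
      exact h1 (Equiv.ext hcon)
    refine mem_support_bigDiag f n z _ _ hi ?_ t
    have h3 := congrArg (fun m => m ≫ pr f i) hz
    simp only [SymProd.permActU_hom, Category.assoc, SymProd.permHom_π] at h3
    exact h3

end K992.DivQuot
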