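import Groth.Agent.Zeta.K467.QuotFlat
import Groth.Agent.Sga1.FreeQuotSch

/-!
# A quotient by a finite group is étale away from the points with nontrivial inertia

`etale_of_notMem`: let `p : P ⟶ Y` be a quotient by a finite group, `N ⊆ P` a closed set containing the
images of all geometric points fixed by some `g ≠ 1`. Then `p` is étale near every point outside `N`.
-/

set_option autoImplicit false
universe u

open CategoryTheory CategoryTheory.Limits AlgebraicGeometry
open Groth.Agent.Sga1.QuotBasic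

namespace K992.EtaleFree

variable {P Y : Scheme.{u}} {G : Type u} [Group G] [Finite G]

section BC

variable {X X' Y' : Scheme.{u}}

/-- the base change of a group action. -/
noncomputable def actBC {ρ : G →* Aut X} {p : X ⟶ Y} (hρ : ∀ g, (ρ g).hom ≫ p = p)
    {b' : X' ⟶ X} {p' : X' ⟶ Y'} {b : Y' ⟶ Y} (sq : IsPullback b' p' p b) (g : G) : X' ⟶ X' :=
  sq.lift (b' ≫ (ρ g).hom) p' (by rw [Category.assoc, hρ, sq.w])

variable {ρ : G →* Aut X} {p : X ⟶ Y} (hρ : ∀ g, (ρ g).hom ≫ p = p)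
    {b' : X' ⟶ X} {p' : X' ⟶ Y'} {b : Y' ⟶ Y} (sq : IsPullback b' p' p b)

omit [Finite G] in
theorem actBC_fst (g : G) : actBC hρ sq g ≫ b' = b' ≫ (ρ g).hom := sq.lift_fst _ _ _

omit [Finite G] in
theorem actBC_snd (g : G) : actBC hρ sq g ≫ p' = p' := sq.lift_snd _ _ _

omit [Finite G] in
theorem actBC_one : actBC hρ sq 1 = 𝟙 _ := by
  apply sq.hom_ext
  · rw [actBC_fst, map_one]
    exact (Category.comp_id _).trans (Category.id_comp _).symm
  · rw [actBC_snd, Category.id_comp]

omit [Finite G] in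
theorem actBC_mul (g h : G) : actBC hρ sq (g * h) = actBC hρ sq h ≫ actBC hρ sq g := by
  apply sq.hom_ext
  · rw [actBC_fst, Category.assoc, actBC_fst, ← Category.assoc, actBC_fst, Category.assoc, map_mul]
    rfl
  · rw [actBC_snd, Category.assoc, actBC_snd, actBC_snd]

/-- the base change of a group action, as an action. -/
noncomputable def actHom : G →* Aut X' where
  toFun g :=
    { hom := actBC hρ sq g
      inv := actBC hρ sq g⁻¹
      hom_inv_id := by rw [← actBC_mul, inv_mul_cancel, actBC_one]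
      inv_hom_id := by rw [← actBC_mul, mul_inv_cancel, actBC_one] }
  map_one' := Iso.ext (actBC_one hρ sq)
  map_mul' g h := Iso.ext (actBC_mul hρ sq g h)

omit [Finite G] in
theorem actHom_hom (g : G) : (actHom hρ sq g).hom = actBC hρ sq g := rfl

end BC

/-- A quotient by a finite group is étale away from a closed set containing all the geometric points fixed by a
nontrivial element. -/
theorem etale_of_notMem {ρ : G →* Aut P} {p : P ⟶ Y} (hp : SGA1.IsQuot ρ p) (N : Set P)
    (hN : IsClosed N)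
    (hfree : ∀ (K : Type u) [Field K] [IsAlgClosed K] (ξ : Spec (CommRingCat.of K) ⟶ P) (g : G),
      ξ ≫ (ρ g).hom = ξ → (∀ t, ξ.base t ∉ N) → g = 1) (x : P) (hx : x ∉ N) :
    ∃ V : P.Opens, x ∈ V ∧ Etale (V.ι ≫ p) := by
  let V₁ : Y.Opens := ⟨p '' Nᶜ, isOpenMap_of_isQuot hp _ hN.isOpen_compl⟩
  have hxV : x ∈ p ⁻¹ᵁ V₁ := ⟨x, hx, rfl⟩
  have sq : IsPullback (p ⁻¹ᵁ V₁).ι (p ∣_ V₁) p V₁.ι := (isPullback_morphismRestrict p V₁).flip
  have hq : SGA1.IsQuot (actHom hp.inv sq) (p ∣_ V₁) :=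
    K467.QuotFlat.isQuot_of_flat_baseChange hp sq (actBC_fst hp.inv sq) (actBC_snd hp.inv sq)
  have hF : Groth.Agent.Sga1.FreeQuotSch.IsFree (actHom hp.inv sq) := by
    intro K _ _ ξ g hg
    -- the geometric point in P
    let ξ' : Spec (CommRingCat.of K) ⟶ P := ξ ≫ (p ⁻¹ᵁ V₁).ι
    have hξ' : ξ' ≫ (ρ g).hom = ξ' := by
      have h1 := congrArg (· ≫ (p ⁻¹ᵁ V₁).ι) hg
      simp only [Category.assoc, actHom_hom, actBC_fst] at h1
      simpa only [ξ', Category.assoc] using h1
    obtain ⟨t₀⟩ : Nonempty (Spec (CommRingCat.of K)) := inferInstance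
    have hmem : ξ'.base t₀ ∈ p ⁻¹ᵁ V₁ := by
      rw [Scheme.Hom.comp_base]
      exact (ξ.base t₀).2
    obtain ⟨y, hyN, hy⟩ := hmem
    obtain ⟨h, hh⟩ := exists_apply_eq_of_isQuot hp hy.symm
    have hsub : ∀ t, t = t₀ := fun t => Subsingleton.elim _ _
    have h2 : (ξ' ≫ (ρ h).hom) ≫ (ρ (h * g * h⁻¹)).hom = ξ' ≫ (ρ h).hom := by
      have e1 : (ρ h).hom ≫ (ρ (h * g * h⁻¹)).hom = (ρ g).hom ≫ (ρ h).hom := by
        rw [← hom_mul, ← hom_mul]
        congr 2
        group
      rw [Category.assoc, e1, ← Category.assoc, hξ']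
    have h3 := hfree K (ξ' ≫ (ρ h).hom) (h * g * h⁻¹) h2 (fun t => by
      rw [hsub t, Scheme.Hom.comp_base]
      change (ρ h).hom (ξ' t₀) ∉ N
      rw [hh]
      exact hyN)
    have h4 : h * g = h := by
      calc h * g = (h * g * h⁻¹) * h := by group
        _ = h := by rw [h3, one_mul]
    simpa using h4
  have het := Groth.Agent.Sga1.FreeQuotSch.etale_of_isFree hq hF
  refine ⟨p ⁻¹ᵁ V₁, hxV, ?_⟩
  rw [sq.w]
  infer_instance

end K992.EtaleFree
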