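import Groth.Prelude.Def_SymProd

/-!
# Fibre powers: the cartesian square `X^(n+1) = X^n ×_S X`
-/

set_option autoImplicit false
universe u

open CategoryTheory CategoryTheory.Limits AlgebraicGeometry

namespace K992.FibPow

variable {X S : Scheme.{u}} (f : X ⟶ S)

/-- The structure map of the fibre power. -/
noncomputable abbrev base (n : ℕ) : SymProd.fibPow f n ⟶ S := WidePullback.base fun _ : Fin n => f

/-- The projections of the fibre power. -/
noncomputable abbrev pr {n : ℕ} (i : Fin n) : SymProd.fibPow f n ⟶ X :=
  WidePullback.π (fun _ : Fin n => f) i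

lemma pr_comp {n : ℕ} (i : Fin n) : pr f i ≫ f = base f n := WidePullback.π_arrow _ i

/-- Morphisms into the fibre power are determined by their components. -/
lemma hom_ext {n : ℕ} {T : Scheme.{u}} {a b : T ⟶ SymProd.fibPow f n}
    (h : ∀ i, a ≫ pr f i = b ≫ pr f i) (h' : a ≫ base f n = b ≫ base f n) : a = b :=
  WidePullback.hom_ext _ _ _ h h'

lemma hom_ext_pos {n : ℕ} {T : Scheme.{u}} {a b : T ⟶ SymProd.fibPow f (n + 1)}
    (h : ∀ i, a ≫ pr f i = b ≫ pr f i) : a = b := by
  refine hom_ext f h ?_
  rw [← pr_comp f 0, ← Category.assoc, ← Category.assoc, h]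

section Lift

variable {T : Scheme.{u}} {n : ℕ} (t : T ⟶ S) (x : Fin n → (T ⟶ X)) (h : ∀ i, x i ≫ f = t)

/-- The morphism to the fibre power with given components. -/
noncomputable def lift : T ⟶ SymProd.fibPow f n := WidePullback.lift t x h

@[reassoc (attr := simp)]
lemma lift_pr (i : Fin n) : lift f t x h ≫ pr f i = x i := WidePullback.lift_π _ _ _ _ i

@[reassoc (attr := simp)]
lemma lift_base : lift f t x h ≫ base f n = t := WidePullback.lift_base _ _ _ _

end Lift

/-- Forgetting the last factor. -/
noncomputable def init (n : ℕ) : SymProd.fibPow f (n + 1) ⟶ SymProd.fibPow f n :=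
  lift f (base f (n + 1)) (fun i => pr f i.castSucc) (fun _ => pr_comp f _)

@[reassoc (attr := simp)]
lemma init_pr {n : ℕ} (i : Fin n) : init f n ≫ pr f i = pr f i.castSucc :=
  lift_pr _ _ _ _ i

@[reassoc (attr := simp)]
lemma init_base (n : ℕ) : init f n ≫ base f n = base f (n + 1) :=
  lift_base _ _ _ _

/-- The square of the last factor. -/
lemma isPullback_init (n : ℕ) :
    IsPullback (init f n) (pr f (Fin.last n)) (base f n) f := by
  have w : init f n ≫ base f n = pr f (Fin.last n) ≫ f := by
    rw [init_base, pr_comp]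
  have hl : ∀ s : PullbackCone (base f n) f, ∀ i, (Fin.lastCases (motive := fun _ => s.pt ⟶ X)
      s.snd (fun i => s.fst ≫ pr f i) i) ≫ f = s.fst ≫ base f n := by
    intro s i
    induction i using Fin.lastCases with
    | last => simpa using s.condition.symm
    | cast i => rw [Fin.lastCases_castSucc, Category.assoc, pr_comp]
  refine ⟨⟨w⟩, ⟨PullbackCone.IsLimit.mk w
    (fun s => lift f (s.fst ≫ base f n)
      (Fin.lastCases (motive := fun _ => s.pt ⟶ X) s.snd (fun i => s.fst ≫ pr f i)) (hl s))
      ?_ ?_ ?_⟩⟩
  · intro s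
    apply hom_ext
    · intro i
      rw [Category.assoc, init_pr, lift_pr, Fin.lastCases_castSucc]
    · rw [Category.assoc, init_base, lift_base]
  · intro s
    rw [lift_pr, Fin.lastCases_last]
  · intro s m h1 h2
    apply hom_ext
    · intro i
      rw [lift_pr]
      induction i using Fin.lastCases with
      | last => rw [Fin.lastCases_last, h2]
      | cast i => rw [Fin.lastCases_castSucc, ← init_pr, ← Category.assoc, h1]
    · rw [lift_base, ← init_base, ← Category.assoc, h1]

/-- The zeroth fibre power is the base. -/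
lemma isIso_base_zero : IsIso (base f 0) := by
  refine ⟨lift f (𝟙 S) (fun i => i.elim0) (fun i => i.elim0), ?_, lift_base _ _ _ _⟩
  apply hom_ext
  · intro i; exact i.elim0
  · rw [Category.assoc, lift_base, Category.comp_id, Category.id_comp]

end K992.FibPow
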