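import Groth.Agent.SymProd.K992.GoodInv

/-!
# Consequences of the commutation of invariants with tensor products
-/

set_option autoImplicit false
universe u v w

open TensorProduct

namespace K992.GoodInv

variable {R : Type u} [CommRing R] {T : Type v} [AddCommMonoid T] [Module R T] {G : Type w}
  {a : G → T →ₗ[R] T}

/-- Transport along an equivariant isomorphism. -/
theorem Good.of_equiv (ha : Good a) {T' : Type*} [AddCommMonoid T'] [Module R T'] (e : T ≃ₗ[R] T')
    {G' : Type*} {a' : G' → T' →ₗ[R] T'} (φ : G' → G) (hφ : Function.Surjective φ)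
    (h : ∀ g' t, a' g' (e t) = e (a (φ g') t)) : Good a' := by
  have hmem : ∀ t, t ∈ inv a ↔ e t ∈ inv a' := by
    intro t
    rw [mem_inv, mem_inv]
    constructor
    · intro h1 g'
      rw [h, h1]
    · intro h1 g
      obtain ⟨g', rfl⟩ := hφ g
      apply e.injective
      rw [← h, h1]
  let e' : inv a ≃ₗ[R] inv a' :=
    { toFun := fun t => ⟨e t.1, (hmem _).1 t.2⟩
      invFun := fun t => ⟨e.symm t.1, (hmem _).2 (by rw [e.apply_symm_apply]; exact t.2)⟩
      left_inv := fun t => Subtype.ext (e.symm_apply_apply _)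
      right_inv := fun t => Subtype.ext (e.apply_symm_apply _)
      map_add' := fun x y => Subtype.ext (map_add e _ _)
      map_smul' := fun r x => Subtype.ext (map_smul e _ _) }
  have hcomm : (inv a').subtype ∘ₗ e'.toLinearMap = e.toLinearMap ∘ₗ (inv a).subtype := rfl
  refine ⟨fun N _ _ => ?_, fun N _ _ z hz => ?_⟩
  · have h1 : Function.Injective (((inv a').subtype ∘ₗ e'.toLinearMap).lTensor N) := by
      rw [hcomm, LinearMap.lTensor_comp]
      exact (LinearEquiv.lTensor N e).injective.comp (ha.inj N)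
    rw [LinearMap.lTensor_comp] at h1
    intro x y hxy
    obtain ⟨x', rfl⟩ := (LinearEquiv.lTensor N e').surjective x
    obtain ⟨y', rfl⟩ := (LinearEquiv.lTensor N e').surjective y
    exact congrArg _ (h1 hxy)
  · obtain ⟨z', rfl⟩ := (LinearEquiv.lTensor N e).surjective z
    have hact : ∀ g' (z : N ⊗[R] T), (a' g').lTensor N (e.toLinearMap.lTensor N z) =
        e.toLinearMap.lTensor N ((a (φ g')).lTensor N z) := by
      intro g' z
      rw [← LinearMap.comp_apply, ← LinearMap.comp_apply, ← LinearMap.lTensor_comp,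
        ← LinearMap.lTensor_comp]
      congr 2
      ext t
      exact h g' t
    obtain ⟨y, hy⟩ := ha.surj N z' (fun g => by
      obtain ⟨g', rfl⟩ := hφ g
      apply (LinearEquiv.lTensor N e).injective
      exact (hact g' z').symm.trans (hz g'))
    refine ⟨e'.toLinearMap.lTensor N y, ?_⟩
    rw [← LinearMap.comp_apply, ← LinearMap.lTensor_comp, hcomm, LinearMap.lTensor_comp,
      LinearMap.comp_apply, hy]
    rfl

variable (a) in
/-- The isomorphism onto the invariants. -/
noncomputable def eqv {C : Type*} [AddCommMonoid C] [Module R C] (i : C →ₗ[R] T)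
    (hi : Function.Injective i) (hr : ∀ t, (∀ g, a g t = t) ↔ t ∈ Set.range i) :
    C ≃ₗ[R] inv a :=
  LinearEquiv.ofBijective (i.codRestrict (inv a) (fun c => mem_inv.2 ((hr _).2 ⟨c, rfl⟩)))
    ⟨fun x y h => hi (congrArg Subtype.val h), fun t => by
      obtain ⟨c, hc⟩ := (hr t.1).1 (mem_inv.1 t.2)
      exact ⟨c, Subtype.ext hc⟩⟩

lemma subtype_eqv {C : Type*} [AddCommMonoid C] [Module R C] (i : C →ₗ[R] T)
    (hi : Function.Injective i) (hr : ∀ t, (∀ g, a g t = t) ↔ t ∈ Set.range i) :
    (inv a).subtype ∘ₗ (eqv a i hi hr).toLinearMap = i := rfl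

theorem Good.lTensor_injective (ha : Good a) {C : Type*} [AddCommMonoid C] [Module R C]
    (i : C →ₗ[R] T) (hi : Function.Injective i) (hr : ∀ t, (∀ g, a g t = t) ↔ t ∈ Set.range i)
    (N : Type u) [AddCommGroup N] [Module R N] : Function.Injective (i.lTensor N) := by
  rw [← subtype_eqv i hi hr, LinearMap.lTensor_comp]
  exact (ha.inj N).comp (LinearEquiv.lTensor N (eqv a i hi hr)).injective

theorem Good.mem_range (ha : Good a) {C : Type*} [AddCommMonoid C] [Module R C]
    (i : C →ₗ[R] T) (hi : Function.Injective i) (hr : ∀ t, (∀ g, a g t = t) ↔ t ∈ Set.range i)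
    (N : Type u) [AddCommGroup N] [Module R N] (z : N ⊗[R] T)
    (hz : ∀ g, (a g).lTensor N z = z) : z ∈ Set.range (i.lTensor N) := by
  obtain ⟨y, rfl⟩ := ha.surj N z hz
  obtain ⟨y', rfl⟩ := (LinearEquiv.lTensor N (eqv a i hi hr)).surjective y
  refine ⟨y', ?_⟩
  conv_lhs => rw [← subtype_eqv i hi hr, LinearMap.lTensor_comp]
  rfl

/-- The invariants are flat. -/
theorem Good.flat {T : Type u} [AddCommGroup T] [Module R T] {a : G → T →ₗ[R] T} (ha : Good a)
    [Module.Flat R T] {C : Type u} [AddCommGroup C] [Module R C]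
    (i : C →ₗ[R] T) (hi : Function.Injective i) (hr : ∀ t, (∀ g, a g t = t) ↔ t ∈ Set.range i) :
    Module.Flat R C := by
  rw [Module.Flat.iff_rTensor_preserves_injective_linearMap]
  intro N N' _ _ _ _ f hf
  have h1 : Function.Injective (i.lTensor N' ∘ₗ f.rTensor C) := by
    have h2 : i.lTensor N' ∘ₗ f.rTensor C = f.rTensor T ∘ₗ i.lTensor N := by
      ext; simp
    rw [h2]
    exact (Module.Flat.rTensor_preserves_injective_linearMap f hf).comp
      (ha.lTensor_injective i hi hr N)
  exact Function.Injective.of_comp h1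

/-- Base change of the invariants. -/
theorem Good.baseChange (ha : Good a) {C : Type*} [AddCommMonoid C] [Module R C]
    (i : C →ₗ[R] T) (hi : Function.Injective i) (hr : ∀ t, (∀ g, a g t = t) ↔ t ∈ Set.range i)
    (N : Type u) [AddCommGroup N] [Module R N] {C' T' : Type*} (eC : N ⊗[R] C ≃ C')
    (eT : N ⊗[R] T ≃ T') (i' : C' → T') (hi' : ∀ x, i' (eC x) = eT (i.lTensor N x))
    (a' : G → T' → T') (ha' : ∀ g x, a' g (eT x) = eT ((a g).lTensor N x)) :
    Function.Injective i' ∧ ∀ t', (∀ g, a' g t' = t') → t' ∈ Set.range i' := by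
  constructor
  · intro x y hxy
    obtain ⟨x', rfl⟩ := eC.surjective x
    obtain ⟨y', rfl⟩ := eC.surjective y
    rw [hi', hi'] at hxy
    exact congrArg _ (ha.lTensor_injective i hi hr N (eT.injective hxy))
  · intro t' ht'
    obtain ⟨t, rfl⟩ := eT.surjective t'
    obtain ⟨c, rfl⟩ := ha.mem_range i hi hr N t (fun g => by
      apply eT.injective
      rw [← ha', ht'])
    exact ⟨eC c, hi' c⟩

end K992.GoodInv
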