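import Mathlib

/-!
# Families of endomorphisms whose invariants commute with tensor products
-/

set_option autoImplicit false
universe u v w

open TensorProduct

namespace K992.GoodInv

section Def

variable {R : Type u} [CommRing R] {T : Type v} [AddCommMonoid T] [Module R T] {G : Type w}

/-- The invariants of a family of endomorphisms. -/
def inv (a : G → T →ₗ[R] T) : Submodule R T where
  carrier := {t | ∀ g, a g t = t}
  add_mem' := fun {x y} hx hy g => by rw [map_add, hx g, hy g]
  zero_mem' := fun g => map_zero _
  smul_mem' := fun r x hx g => by rw [map_smul, hx g]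

lemma mem_inv {a : G → T →ₗ[R] T} {t : T} : t ∈ inv a ↔ ∀ g, a g t = t := Iff.rfl

/-- Forming the invariants of the family commutes with tensor products. -/
structure Good (a : G → T →ₗ[R] T) : Prop where
  inj : ∀ (N : Type u) [AddCommGroup N] [Module R N],
    Function.Injective ((inv a).subtype.lTensor N)
  surj : ∀ (N : Type u) [AddCommGroup N] [Module R N] (z : N ⊗[R] T),
    (∀ g, (a g).lTensor N z = z) → z ∈ LinearMap.range ((inv a).subtype.lTensor N)

end Def

section Perm

variable {R : Type u} [CommRing R] {T : Type v} [AddCommMonoid T] [Module R T]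
  {I : Type*} (b : Module.Basis I R T) {G : Type*} [Group G] [Finite G] [MulAction G I]

omit [Finite G] in
lemma finite_orbit [Finite G] (i : I) : (MulAction.orbit G i).Finite :=
  Set.finite_range (fun g : G => g • i)

/-- a set of representatives of the orbits -/
noncomputable def rep (i : I) : I :=
  (Quotient.out (Quotient.mk (MulAction.orbitRel G I) i) : I)

omit [Finite G] in
lemma rep_mem (i : I) : rep (G := G) i ∈ MulAction.orbit G i := by
  have h := Quotient.mk_out (s := MulAction.orbitRel G I) i
  exact h

omit [Finite G] in
lemma rep_eq {i j : I} (h : j ∈ MulAction.orbit G i) : rep (G := G) j = rep (G := G) i := by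
  unfold rep
  congr 1
  exact Quotient.sound h

open Classical in
/-- the retraction onto the invariants -/
noncomputable def ret : T →ₗ[R] T :=
  b.constr R (fun i => if i = rep (G := G) i then
    ∑ j ∈ (finite_orbit (G := G) i).toFinset, b j else 0)

open Classical in
lemma repr_ret (t : T) (j : I) : b.repr (ret (G := G) b t) j = b.repr t (rep (G := G) j) := by
  have h : (Finsupp.lapply j) ∘ₗ b.repr.toLinearMap ∘ₗ ret (G := G) b =
      (Finsupp.lapply (rep (G := G) j)) ∘ₗ b.repr.toLinearMap := by
    apply b.ext
    intro i
    simp only [LinearMap.coe_comp, LinearEquiv.coe_coe, Function.comp_apply,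
      Finsupp.lapply_apply, Module.Basis.repr_self]
    rw [ret, Module.Basis.constr_basis]
    by_cases hi : i = rep (G := G) i
    · rw [if_pos hi, map_sum, Finsupp.finsetSum_apply]
      simp only [Module.Basis.repr_self, Finsupp.single_apply]
      rw [Finset.sum_ite_eq']
      simp only [Set.Finite.mem_toFinset]
      by_cases hj : j ∈ MulAction.orbit G i
      · rw [if_pos hj, if_pos (by rw [rep_eq hj]; exact hi)]
      · rw [if_neg hj, if_neg]
        intro h
        apply hj
        rw [MulAction.mem_orbit_symm, h]
        exact rep_mem j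
    · rw [if_neg hi, map_zero, Finsupp.zero_apply, Finsupp.single_apply, if_neg]
      intro h
      apply hi
      rw [h, rep_eq (rep_mem j)]
  exact congrArg (fun k => k t) h

/-- The invariants of a permutation module commute with tensor products. -/
theorem good_of_basis (a : G → T →ₗ[R] T) (ha : ∀ g i, a g (b i) = b (g • i)) : Good a := by
  classical
  have hrepr : ∀ g t i, b.repr (a g t) i = b.repr t (g⁻¹ • i) := by
    intro g t i
    have h : (Finsupp.lapply i) ∘ₗ b.repr.toLinearMap ∘ₗ a g =
        (Finsupp.lapply (g⁻¹ • i)) ∘ₗ b.repr.toLinearMap := by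
      apply b.ext
      intro j
      simp only [LinearMap.coe_comp, LinearEquiv.coe_coe, Function.comp_apply,
        Finsupp.lapply_apply, Module.Basis.repr_self, ha]
      rw [Finsupp.single_apply, Finsupp.single_apply]
      congr 1
      rw [eq_inv_smul_iff]
    exact congrArg (fun k => k t) h
  have key : ∀ (N : Type u) [AddCommGroup N] [Module R N] (z : N ⊗[R] T),
      (∀ g, (a g).lTensor N z = z) → (ret (G := G) b).lTensor N z = z := by
    intro N _ _ z hz
    apply (TensorProduct.equivFinsuppOfBasisRight b).injective
    ext j
    have h1 : ∀ z : N ⊗[R] T, TensorProduct.equivFinsuppOfBasisRight b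
        ((ret (G := G) b).lTensor N z) j =
        TensorProduct.equivFinsuppOfBasisRight b z (rep (G := G) j) := by
      intro z
      induction z with
      | zero => simp
      | add x y hx hy => simp only [map_add, Finsupp.add_apply, hx, hy]
      | tmul n t =>
        rw [LinearMap.lTensor_tmul, TensorProduct.equivFinsuppOfBasisRight_apply_tmul_apply,
          TensorProduct.equivFinsuppOfBasisRight_apply_tmul_apply, repr_ret]
    have h2 : ∀ g (z : N ⊗[R] T), TensorProduct.equivFinsuppOfBasisRight b
        ((a g).lTensor N z) j =
        TensorProduct.equivFinsuppOfBasisRight b z (g⁻¹ • j) := by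
      intro g z
      induction z with
      | zero => simp
      | add x y hx hy => simp only [map_add, Finsupp.add_apply, hx, hy]
      | tmul n t =>
        rw [LinearMap.lTensor_tmul, TensorProduct.equivFinsuppOfBasisRight_apply_tmul_apply,
          TensorProduct.equivFinsuppOfBasisRight_apply_tmul_apply, hrepr]
    rw [h1]
    obtain ⟨g, hg⟩ := rep_mem (G := G) j
    rw [← hg]
    have h3 := h2 g⁻¹ z
    rw [hz, inv_inv] at h3
    exact h3.symm
  have hmem : ∀ t, ret (G := G) b t ∈ inv a := by
    intro t g
    apply b.repr.injective
    ext i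
    rw [hrepr, repr_ret, repr_ret]
    congr 1
    exact rep_eq ⟨g⁻¹, rfl⟩
  let r : T →ₗ[R] inv a := (ret (G := G) b).codRestrict (inv a) hmem
  have hr : (inv a).subtype ∘ₗ r = ret (G := G) b := rfl
  have hr' : r ∘ₗ (inv a).subtype = LinearMap.id := by
    ext ⟨t, ht⟩
    change ret (G := G) b t = t
    apply b.repr.injective
    ext j
    rw [repr_ret]
    obtain ⟨g, hg⟩ := rep_mem (G := G) j
    rw [← hg]
    have h3 := hrepr g⁻¹ t j
    rw [ht, inv_inv] at h3
    exact h3.symm
  refine ⟨fun N _ _ => ?_, fun N _ _ z hz => ?_⟩
  · apply Function.LeftInverse.injective (g := r.lTensor N)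
    intro x
    rw [← LinearMap.comp_apply, ← LinearMap.lTensor_comp, hr', LinearMap.lTensor_id]
    rfl
  · refine ⟨r.lTensor N z, ?_⟩
    rw [← LinearMap.comp_apply, ← LinearMap.lTensor_comp, hr, key N z hz]

end Perm

end K992.GoodInv
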