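import Groth.Agent.SymProd.K992.GoodAlg
import Groth.Agent.Sga1.QuotBasic
import Mathlib.AlgebraicGeometry.Morphisms.Flat

/-!
# Flatness and base change of quotients with good local charts
-/

set_option autoImplicit false
set_option backward.isDefEq.respectTransparency false
universe u

open CategoryTheory CategoryTheory.Limits AlgebraicGeometry TensorProduct

namespace K992.GoodSch

open K992.GoodInv Groth.Agent.Sga1.QuotBasic

/-- A pushout of commutative rings is a tensor product. -/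
lemma exists_equiv_of_isPushout {R A R' A' : CommRingCat.{u}} {i : R ⟶ A} {j : R ⟶ R'}
    {j' : A ⟶ A'} {i' : R' ⟶ A'} (h : IsPushout i j j' i') :
    letI := i.hom.toAlgebra
    letI := j.hom.toAlgebra
    ∃ e : (R' ⊗[R] A) ≃+ A', ∀ r a, e (r ⊗ₜ a) = i'.hom r * j'.hom a := by
  algebraize [i.hom, j.hom, i'.hom, j'.hom, (i ≫ j').hom]
  have t1 : IsScalarTower R A A' := IsScalarTower.of_algebraMap_eq' rfl
  have t2 : IsScalarTower R R' A' := by
    refine IsScalarTower.of_algebraMap_eq' ?_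
    exact congrArg (fun k => k.hom) h.w
  have t3 : Algebra.IsPushout R R' A A' :=
    ((CommRingCat.isPushout_iff_isPushout (R := R) (S := R') (R' := A) (S' := A')).mp h).symm
  let e : R' ⊗[R] A ≃ₐ[R'] A' := Algebra.IsPushout.equiv R R' A A'
  exact ⟨e.toAddEquiv, fun r a => Algebra.IsPushout.equiv_tmul R R' A A' r a⟩

variable {P Y S : Scheme.{u}} {G : Type u} [Group G] (ρ : G →* Aut P)

section GoodAt

variable {b : P ⟶ S} (hb : ∀ σ : G, (ρ σ).hom ≫ b = b) {V : S.Opens} {O : P.Opens}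
  (hO : Stable ρ O) (e : O ≤ b ⁻¹ᵁ V)

include hb in
lemma appLE_act (σ : G) : b.appLE V O e ≫ act ρ hO σ = b.appLE V O e := by
  unfold act
  rw [Scheme.Hom.appLE_comp_appLE, appLE_congr_hom (hb σ)]

/-- The action on sections as algebra maps. -/
noncomputable def actLin (σ : G) : letI := (b.appLE V O e).hom.toAlgebra
    Γ(P, O) →ₗ[Γ(S, V)] Γ(P, O) :=
  letI := (b.appLE V O e).hom.toAlgebra
  (AlgHom.toLinearMap { (act ρ hO σ).hom with
    commutes' := fun r => congrArg (fun k => k.hom r) (appLE_act ρ hb hO e σ) } :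
    Γ(P, O) →ₗ[Γ(S, V)] Γ(P, O))

/-- The invariants of the sections over `O` commute with tensor products over `Γ(S, V)`. -/
def GoodAt : Prop :=
  letI := (b.appLE V O e).hom.toAlgebra
  Good (R := Γ(S, V)) (T := Γ(P, O)) (fun σ : G => actLin ρ hb hO e σ)

end GoodAt

section Quot

variable {ρ} {p : P ⟶ Y} (hp : SGA1.IsQuot ρ p) {g : Y ⟶ S}

include hp in
lemma inv_comp (σ : G) : (ρ σ).hom ≫ p ≫ g = p ≫ g := by
  rw [← Category.assoc, hp.inv]

lemma le_comp {V : S.Opens} {W : Y.Opens} (hW : W ≤ g ⁻¹ᵁ V) : p ⁻¹ᵁ W ≤ (p ≫ g) ⁻¹ᵁ V :=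
  fun _ hx => hW hx

/-- Flatness of the quotient. -/
theorem flat_appLE {V : S.Opens} {W : Y.Opens} (hW : W ≤ g ⁻¹ᵁ V)
    (hgood : GoodAt ρ (inv_comp hp) (stable_preimage hp.inv W) (le_comp hW))
    (hflat : ((p ≫ g).appLE V (p ⁻¹ᵁ W) (le_comp hW)).hom.Flat) : (g.appLE V W hW).hom.Flat := by
  let A1 : Algebra Γ(S, V) Γ(P, p ⁻¹ᵁ W) :=
    ((p ≫ g).appLE V (p ⁻¹ᵁ W) (le_comp hW)).hom.toAlgebra
  let A2 : Algebra Γ(S, V) Γ(Y, W) := (g.appLE V W hW).hom.toAlgebra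
  have hf : Module.Flat Γ(S, V) Γ(P, p ⁻¹ᵁ W) := hflat
  let i : Γ(Y, W) →ₗ[Γ(S, V)] Γ(P, p ⁻¹ᵁ W) :=
    (AlgHom.toLinearMap { (p.app W).hom with
      commutes' := fun r => by
        have h1 : g.appLE V W hW ≫ p.app W = (p ≫ g).appLE V (p ⁻¹ᵁ W) (le_comp hW) := by
          rw [Scheme.Hom.app_eq_appLE, Scheme.Hom.appLE_comp_appLE]
        exact congrArg (fun k => k.hom r) h1 })
  have hi : Function.Injective i := hp.injective W
  have key : Module.Flat Γ(S, V) Γ(Y, W) :=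
    Good.flat (a := fun σ : G => actLin ρ (inv_comp hp) (stable_preimage hp.inv W) (le_comp hW) σ)
      hgood i hi (fun t => (hp.range_iff W t).symm)
  exact key

/-- Base change of the quotient. -/
theorem quotOn_baseChange {P' Y' S' : Scheme.{u}} {b : S' ⟶ S} {gY : Y' ⟶ Y} {g' : Y' ⟶ S'}
    (hY : IsPullback gY g' g b) {c : P' ⟶ P} {p' : P' ⟶ Y'} (hX : IsPullback c p' p gY)
    {ρ' : G →* Aut P'} (hρ₁ : ∀ σ : G, (ρ' σ).hom ≫ c = c ≫ (ρ σ).hom)
    (hρ₂ : ∀ σ : G, (ρ' σ).hom ≫ p' = p') {V : S.Opens} (hV : IsAffineOpen V) {W : Y.Opens}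
    (hWaff : IsAffineOpen W) (hPaff : IsAffineOpen (p ⁻¹ᵁ W)) (hW : W ≤ g ⁻¹ᵁ V)
    (hgood : GoodAt ρ (inv_comp hp) (stable_preimage hp.inv W) (le_comp hW))
    {V' : S'.Opens} (hV' : IsAffineOpen V') (hVV' : V' ≤ b ⁻¹ᵁ V) :
    QuotOn hρ₂ (gY ⁻¹ᵁ W ⊓ g' ⁻¹ᵁ V') := by
  let O' : Y'.Opens := gY ⁻¹ᵁ W ⊓ g' ⁻¹ᵁ V'
  have hO'1 : O' ≤ gY ⁻¹ᵁ W := inf_le_left
  have hO'2 : O' ≤ g' ⁻¹ᵁ V' := inf_le_right
  have hO'' : p' ⁻¹ᵁ O' = c ⁻¹ᵁ (p ⁻¹ᵁ W) ⊓ (p' ≫ g') ⁻¹ᵁ V' := by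
    rw [← Scheme.Hom.comp_preimage, hX.w]
    rfl
  have hle1 : p' ⁻¹ᵁ O' ≤ c ⁻¹ᵁ (p ⁻¹ᵁ W) := hO''.le.trans inf_le_left
  have hle2 : p' ⁻¹ᵁ O' ≤ (p' ≫ g') ⁻¹ᵁ V' := hO''.le.trans inf_le_right
  have hpush1 := (isIso_pushoutSection_iff hY hVV' hW (UY := O') rfl).1
    (isIso_pushoutSection_of_isAffineOpen hY hVV' hW rfl hV hV' hWaff)
  have hpush2 := (isIso_pushoutSection_iff (hX.paste_vert hY) hVV' (le_comp hW) hO'').1
    (isIso_pushoutSection_of_isAffineOpen (hX.paste_vert hY) hVV' (le_comp hW) hO'' hV hV' hPaff)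
  let A1 : Algebra Γ(S, V) Γ(P, p ⁻¹ᵁ W) :=
    ((p ≫ g).appLE V (p ⁻¹ᵁ W) (le_comp hW)).hom.toAlgebra
  let A2 : Algebra Γ(S, V) Γ(Y, W) := (g.appLE V W hW).hom.toAlgebra
  let A3 : Algebra Γ(S, V) Γ(S', V') := (b.appLE V V' hVV').hom.toAlgebra
  obtain ⟨eC, heC⟩ := exists_equiv_of_isPushout hpush1
  obtain ⟨eT, heT⟩ := exists_equiv_of_isPushout hpush2
  let i : Γ(Y, W) →ₗ[Γ(S, V)] Γ(P, p ⁻¹ᵁ W) :=
    (AlgHom.toLinearMap { (p.app W).hom with
      commutes' := fun r => by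
        have h1 : g.appLE V W hW ≫ p.app W = (p ≫ g).appLE V (p ⁻¹ᵁ W) (le_comp hW) := by
          rw [Scheme.Hom.app_eq_appLE, Scheme.Hom.appLE_comp_appLE]
        exact congrArg (fun k => k.hom r) h1 })
  have hi : Function.Injective i := hp.injective W
  have h2 : g'.appLE V' O' hO'2 ≫ p'.app O' = (p' ≫ g').appLE V' (p' ⁻¹ᵁ O') hle2 := by
    rw [Scheme.Hom.app_eq_appLE, Scheme.Hom.appLE_comp_appLE]
  have h3 : gY.appLE W O' hO'1 ≫ p'.app O' = p.app W ≫ c.appLE (p ⁻¹ᵁ W) (p' ⁻¹ᵁ O') hle1 := by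
    rw [Scheme.Hom.app_eq_appLE, Scheme.Hom.app_eq_appLE, Scheme.Hom.appLE_comp_appLE,
      Scheme.Hom.appLE_comp_appLE]
    exact appLE_congr_hom hX.w.symm _ _ _
  have h4 : ∀ σ : G, (p' ≫ g').appLE V' (p' ⁻¹ᵁ O') hle2 ≫ act ρ' (stable_preimage hρ₂ O') σ =
      (p' ≫ g').appLE V' (p' ⁻¹ᵁ O') hle2 := fun σ =>
    appLE_act ρ' (b := p' ≫ g') (fun σ => by rw [← Category.assoc, hρ₂])
      (stable_preimage hρ₂ O') hle2 σ
  have h5 : ∀ σ : G, c.appLE (p ⁻¹ᵁ W) (p' ⁻¹ᵁ O') hle1 ≫ act ρ' (stable_preimage hρ₂ O') σ =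
      act ρ (stable_preimage hp.inv W) σ ≫ c.appLE (p ⁻¹ᵁ W) (p' ⁻¹ᵁ O') hle1 := by
    intro σ
    unfold act
    rw [Scheme.Hom.appLE_comp_appLE, Scheme.Hom.appLE_comp_appLE]
    exact appLE_congr_hom (hρ₁ σ) _ _ _
  have key := Good.baseChange
    (a := fun σ : G => actLin ρ (inv_comp hp) (stable_preimage hp.inv W) (le_comp hW) σ)
    hgood i hi (fun t => (hp.range_iff W t).symm) Γ(S', V') eC.toEquiv eT.toEquiv
    (p'.app O').hom (fun x => by
      change (p'.app O').hom (eC x) = eT (i.lTensor _ x)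
      induction x with
      | zero => simp
      | add x y hx hy => simp only [map_add, hx, hy]
      | tmul r a =>
        rw [heC, LinearMap.lTensor_tmul, heT, map_mul]
        congr 1
        · exact congrArg (fun k => k.hom r) h2
        · exact congrArg (fun k => k.hom a) h3)
    (fun σ => (act ρ' (stable_preimage hρ₂ O') σ).hom) (fun σ x => by
      change (act ρ' (stable_preimage hρ₂ O') σ).hom (eT x) = eT (LinearMap.lTensor _ _ x)
      induction x with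
      | zero => simp
      | add x y hx hy => simp only [map_add, hx, hy]
      | tmul r a =>
        rw [LinearMap.lTensor_tmul, heT, heT, map_mul]
        congr 1
        · exact congrArg (fun k => k.hom r) (h4 σ)
        · exact congrArg (fun k => k.hom a) (h5 σ))
  exact ⟨key.1, key.2⟩

variable (g) in
include hp in
/-- Every point of the quotient has good affine neighbourhoods. -/
def HasGood : Prop :=
  ∀ (y : Y) (V : S.Opens), IsAffineOpen V → g y ∈ V → ∃ (W : Y.Opens) (hW : W ≤ g ⁻¹ᵁ V), y ∈ W ∧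
    IsAffineOpen W ∧ GoodAt ρ (inv_comp hp) (stable_preimage hp.inv W) (le_comp hW)

/-- Flatness of the quotient. -/
theorem flat_of_hasGood (hgood : HasGood hp g) [Flat (p ≫ g)] : Flat g := by
  have := hp.affine
  rw [HasRingHomProperty.iff_exists_appLE (P := @Flat)
    (RingHom.Flat.stableUnderComposition.stableUnderCompositionWithLocalizationAway
      RingHom.Flat.holdsForLocalizationAway).left]
  intro y
  obtain ⟨_, ⟨V, hV, rfl⟩, hyV, -⟩ := S.isBasis_affineOpens.exists_subset_of_mem_open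
    (Set.mem_univ (g y)) isOpen_univ
  obtain ⟨W, hW, hyW, hWaff, hg⟩ := hgood y V hV hyV
  refine ⟨⟨V, hV⟩, ⟨W, hWaff⟩, hyW, hW, ?_⟩
  exact flat_appLE hp hW hg ((p ≫ g).flat_appLE hV (hWaff.preimage p) (le_comp hW))

/-- Base change of the quotient. -/
theorem isQuot_baseChange (hgood : HasGood hp g) [Finite G]
    {P' Y' S' : Scheme.{u}} {b : S' ⟶ S} {gY : Y' ⟶ Y} {g' : Y' ⟶ S'}
    (hY : IsPullback gY g' g b) {c : P' ⟶ P} {p' : P' ⟶ Y'} (hX : IsPullback c p' p gY)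
    {ρ' : G →* Aut P'} (hρ₁ : ∀ σ : G, (ρ' σ).hom ≫ c = c ≫ (ρ σ).hom)
    (hρ₂ : ∀ σ : G, (ρ' σ).hom ≫ p' = p') : SGA1.IsQuot ρ' p' := by
  have haff := hp.affine
  have haff' : IsAffineHom p' := MorphismProperty.of_isPullback hX haff
  refine isQuot_of_affine_cover hρ₂ (fun y' => ?_)
  obtain ⟨V, hV, hyV⟩ := exists_affine_mem (g (gY y'))
  obtain ⟨W, hW, hyW, hWaff, hg⟩ := hgood (gY y') V hV hyV
  have hw : b (g' y') = g (gY y') := by
    rw [← Scheme.Hom.comp_apply, ← Scheme.Hom.comp_apply, hY.w]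
  obtain ⟨V', hV', hyV', hVV'⟩ := TopologicalSpace.Opens.isBasis_iff_nbhd.mp S'.isBasis_affineOpens
      (show g' y' ∈ b ⁻¹ᵁ V by change b (g' y') ∈ V; rw [hw]; exact hyV)
  have hq := quotOn_baseChange hp hY hX hρ₁ hρ₂ hV hWaff (hWaff.preimage p) hW hg hV' hVV'
  have hmem : y' ∈ gY ⁻¹ᵁ W ⊓ g' ⁻¹ᵁ V' := ⟨hyW, hyV'⟩
  have haffO : IsAffineOpen (gY ⁻¹ᵁ W ⊓ g' ⁻¹ᵁ V') := by
    have : IsAffine (W : Scheme.{u}) := hWaff
    have : IsAffine (V : Scheme.{u}) := hV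
    have : IsAffine (V' : Scheme.{u}) := hV'
    exact .of_isIso (Scheme.Hom.isPullback_resLE hY hVV' hW (UY := gY ⁻¹ᵁ W ⊓ g' ⁻¹ᵁ V')
      rfl).isoPullback.hom
  exact ⟨_, hmem, haffO, hq⟩

end Quot

end K992.GoodSch
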