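import Mathlib.RingTheory.Flat.LocallyFree
import Mathlib.RingTheory.TensorProduct.IncludeLeftSubRight
import Mathlib.RingTheory.Localization.Away.Basic
import Mathlib.LinearAlgebra.Dual.Lemmas

/-!
# Invariants of a generically free action of the right order

Let `B` be a faithfully flat finite projective `R`-algebra of constant rank `|G|`, and `a σ` (`σ ∈ G`)
endomorphisms of the `R`-algebra `B` which are pairwise "disjoint" over a schematically dense open of
`Spec B`.  Then every element of `B` fixed by all `a σ` comes from `R`.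
-/

set_option autoImplicit false
universe u v

open scoped TensorProduct

namespace K992.RingInv

variable {R B : Type u} [CommRing R] [CommRing B] [Algebra R B]
variable {G : Type v} [Fintype G] (a : G → (B →ₐ[R] B))

/-- The map `B ⊗ B ⟶ B`, `x ⊗ y ↦ x a_σ(y)`. -/
noncomputable def Phi (σ : G) : B ⊗[R] B →ₐ[B] B :=
  Algebra.TensorProduct.lift (Algebra.ofId B B) (a σ) (fun _ _ => Commute.all _ _)

@[simp]
lemma Phi_tmul (σ : G) (x y : B) : Phi a σ (x ⊗ₜ y) = x * a σ y := by
  simp [Phi, Algebra.ofId_apply]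

/-- All the `Phi` together. -/
noncomputable def PhiAll : B ⊗[R] B →ₗ[B] (G → B) := LinearMap.pi fun σ => (Phi a σ).toLinearMap

@[simp]
lemma PhiAll_apply (z : B ⊗[R] B) (σ : G) : PhiAll a z σ = Phi a σ z := rfl

lemma exists_separate {h : B} {σ τ : G}
    (hh : h ∈ (Ideal.span (Set.range fun b => a σ b - a τ b)).radical) :
    ∃ (k : ℕ) (c : B ⊗[R] B), Phi a σ c = h ^ k ∧ Phi a τ c = 0 := by
  obtain ⟨k, hk⟩ := hh
  have key : ∀ x ∈ Ideal.span (Set.range fun b => a σ b - a τ b),
      ∃ c : B ⊗[R] B, Phi a σ c = x ∧ Phi a τ c = 0 := by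
    intro x hx
    induction hx using Submodule.span_induction with
    | mem x hx =>
      obtain ⟨b, rfl⟩ := hx
      exact ⟨1 ⊗ₜ b - (a τ b) ⊗ₜ 1, by simp, by simp⟩
    | zero => exact ⟨0, by simp, by simp⟩
    | add x y _ _ hx hy =>
      obtain ⟨c, hc, hc'⟩ := hx
      obtain ⟨d, hd, hd'⟩ := hy
      exact ⟨c + d, by simp [hc, hd], by simp [hc', hd']⟩
    | smul r x _ hx =>
      obtain ⟨c, hc, hc'⟩ := hx
      exact ⟨r • c, by simp [hc], by simp [hc']⟩
  obtain ⟨c, hc, hc'⟩ := key _ hk
  exact ⟨k, c, hc, hc'⟩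

lemma exists_separate_all {h : B}
    (hh : ∀ σ τ : G, σ ≠ τ → h ∈ (Ideal.span (Set.range fun b => a σ b - a τ b)).radical)
    (σ : G) : ∃ (k : ℕ) (c : B ⊗[R] B), Phi a σ c = h ^ k ∧ ∀ τ, τ ≠ σ → Phi a τ c = 0 := by
  classical
  have h1 : ∀ τ : G, ∃ (k : ℕ) (c : B ⊗[R] B), Phi a σ c = h ^ k ∧ (τ ≠ σ → Phi a τ c = 0) := by
    intro τ
    by_cases hτ : τ = σ
    · exact ⟨0, 1, by simp, fun h => absurd hτ h⟩
    · obtain ⟨k, c, hc, hc'⟩ := exists_separate a (hh σ τ (Ne.symm hτ))
      exact ⟨k, c, hc, fun _ => hc'⟩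
  choose k c hc hc' using h1
  refine ⟨∑ τ, k τ, ∏ τ, c τ, ?_, ?_⟩
  · rw [map_prod, Finset.prod_congr rfl (fun τ _ => hc τ), Finset.prod_pow_eq_pow_sum]
  · intro τ hτ
    rw [map_prod]
    exact Finset.prod_eq_zero (Finset.mem_univ τ) (hc' τ hτ)

variable [Module.Finite R B] [Module.Projective R B]

lemma bijective_baseChange (hrank : ∀ p : PrimeSpectrum R, Module.rankAtStalk (R := R) B p =
    Fintype.card G) {h : B}
    (hh : ∀ σ τ : G, σ ≠ τ → h ∈ (Ideal.span (Set.range fun b => a σ b - a τ b)).radical) :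
    Function.Bijective ((PhiAll a).baseChange (Localization.Away h)) := by
  classical
  apply Module.bijective_of_surjective_of_rankAtStalk_eq
  · rw [← LinearMap.range_eq_top, eq_top_iff]
    rintro x -
    have h1 : ∀ σ : G, (1 : Localization.Away h) ⊗ₜ[B] (Pi.single σ (1 : B) : G → B) ∈
        LinearMap.range ((PhiAll a).baseChange (Localization.Away h)) := by
      intro σ
      obtain ⟨k, c, hc, hc'⟩ := exists_separate_all a hh σ
      have h2 : PhiAll a c = (h ^ k) • (Pi.single σ (1 : B) : G → B) := by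
        ext τ
        by_cases hτ : τ = σ
        · subst hτ
          simp [hc]
        · simp [hc' τ hτ, Pi.single_eq_of_ne hτ]
      have hu : IsUnit (algebraMap B (Localization.Away h) (h ^ k)) :=
        IsLocalization.map_units (Localization.Away h) (⟨h ^ k, k, rfl⟩ : Submonoid.powers h)
      obtain ⟨u, hu⟩ := hu
      refine ⟨(↑u⁻¹ : Localization.Away h) ⊗ₜ c, ?_⟩
      rw [LinearMap.baseChange_tmul, h2, ← TensorProduct.smul_tmul, Algebra.smul_def, ← hu,
        Units.mul_inv]
    induction x using TensorProduct.induction_on with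
    | zero => exact zero_mem _
    | add x y hx hy => exact add_mem hx hy
    | tmul t v =>
      have h2 : t ⊗ₜ[B] v = ∑ σ : G, (t * algebraMap B _ (v σ)) •
          ((1 : Localization.Away h) ⊗ₜ[B] (Pi.single σ (1 : B) : G → B)) := by
        have h3 : v = ∑ σ : G, v σ • (Pi.single σ (1 : B) : G → B) := by
          ext τ
          simp [Finset.sum_apply, Pi.single_apply]
        conv_lhs => rw [h3, TensorProduct.tmul_sum]
        refine Finset.sum_congr rfl fun σ _ => ?_
        rw [TensorProduct.smul_tmul', smul_eq_mul, mul_one, ← TensorProduct.smul_tmul,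
          Algebra.smul_def, mul_comm]
      rw [h2]
      exact Submodule.sum_mem _ fun σ _ => Submodule.smul_mem _ _ (h1 σ)
  · intro m hm
    rw [Module.rankAtStalk_baseChange, Module.rankAtStalk_baseChange,
      Module.rankAtStalk_baseChange, hrank]
    have : Nontrivial B := by
      by_contra hB
      rw [not_nontrivial_iff_subsingleton] at hB
      have : Subsingleton (Localization.Away h) :=
        (algebraMap B (Localization.Away h)).codomain_trivial
      exact hm.ne_top (Subsingleton.elim _ _)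
    rw [Module.rankAtStalk_eq_finrank_of_free]
    simp

/-- The kernel of `B ⊗ B ⟶ ∏ B` vanishes. -/
lemma eq_zero_of_PhiAll (hrank : ∀ p : PrimeSpectrum R, Module.rankAtStalk (R := R) B p =
    Fintype.card G) {ι : Type*} (h : ι → B)
    (hh : ∀ i, ∀ σ τ : G, σ ≠ τ →
      h i ∈ (Ideal.span (Set.range fun b => a σ b - a τ b)).radical)
    (hinj : ∀ b : B, (∀ i, ∃ n : ℕ, h i ^ n * b = 0) → b = 0) (z : B ⊗[R] B)
    (hz : PhiAll a z = 0) : z = 0 := by
  rw [← Module.forall_dual_apply_eq_zero_iff B z]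
  intro ℓ
  apply hinj
  intro i
  have h1 : (PhiAll a).baseChange (Localization.Away (h i)) (1 ⊗ₜ z) = 0 := by
    rw [LinearMap.baseChange_tmul, hz, TensorProduct.tmul_zero]
  have h2 : (1 : Localization.Away (h i)) ⊗ₜ[B] z = 0 :=
    (bijective_baseChange a hrank (hh i)).1 (h1.trans (map_zero _).symm)
  have h3 : (1 : Localization.Away (h i)) ⊗ₜ[B] ℓ z = 0 := by
    have := congrArg (ℓ.baseChange (Localization.Away (h i))) h2
    rwa [LinearMap.baseChange_tmul, map_zero] at this
  have h4 : algebraMap B (Localization.Away (h i)) (ℓ z) = 0 := by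
    have := congrArg (TensorProduct.rid B (Localization.Away (h i))) h3
    rwa [TensorProduct.rid_tmul, map_zero, Algebra.smul_def, mul_one] at this
  obtain ⟨⟨_, n, rfl⟩, hn⟩ := (IsLocalization.map_eq_zero_iff (Submonoid.powers (h i))
    (Localization.Away (h i)) (ℓ z)).1 h4
  exact ⟨n, hn⟩

/-- **Invariants**: an element fixed by all `a σ` comes from the base. -/
theorem mem_range_of_fixed [Module.FaithfullyFlat R B]
    (hrank : ∀ p : PrimeSpectrum R, Module.rankAtStalk (R := R) B p =
    Fintype.card G) {ι : Type*} (h : ι → B)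
    (hh : ∀ i, ∀ σ τ : G, σ ≠ τ →
      h i ∈ (Ideal.span (Set.range fun b => a σ b - a τ b)).radical)
    (hinj : ∀ b : B, (∀ i, ∃ n : ℕ, h i ^ n * b = 0) → b = 0) (b : B)
    (hb : ∀ σ, a σ b = b) : b ∈ Set.range (algebraMap R B) := by
  refine ((Algebra.IsEffective.of_faithfullyFlat R B) b).1 ?_
  rw [Algebra.TensorProduct.includeLeftSubRight_apply]
  refine eq_zero_of_PhiAll a hrank h hh hinj _ ?_
  ext σ
  simp [hb]

end K992.RingInv
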