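import Groth.Agent.SymProd.K992.TensPow
import Groth.Agent.SymProd.K992.Charts

/-!
# The fibre power of affine schemes is the spectrum of the tensor power
-/

set_option autoImplicit false
set_option backward.isDefEq.respectTransparency false
universe u

open CategoryTheory CategoryTheory.Limits AlgebraicGeometry
open TensorProduct PiTensorProduct

namespace K992.SpecPow

open K992.FibPow K992.Charts K992.TensPow

section Alg

variable (A B : Type u) [CommRing A] [CommRing B] [Algebra A B] (n : ℕ)

/-- The inclusion of a factor. -/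
noncomputable abbrev single (i : Fin n) : B →ₐ[A] TP A n B :=
  PiTensorProduct.singleAlgHom (R := A) (A := fun _ : Fin n => B) i

variable {A B n}

lemma single_apply (i : Fin n) (b : B) :
    single A B n i b = tprod A (Pi.mulSingle (M := fun _ : Fin n => B) i b) := rfl

/-- The tensor power is the coproduct. -/
noncomputable def desc {C : Type u} [CommRing C] [Algebra A C] (g : Fin n → (B →ₐ[A] C)) :
    TP A n B →ₐ[A] C :=
  PiTensorProduct.liftAlgHom
    ((MultilinearMap.mkPiAlgebra A (Fin n) C).compLinearMap (fun i => (g i).toLinearMap))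
    (by simp)
    (fun x y => by simp [Finset.prod_mul_distrib])

lemma desc_tprod {C : Type u} [CommRing C] [Algebra A C] (g : Fin n → (B →ₐ[A] C))
    (b : Fin n → B) : desc g (tprod A b) = ∏ i, g i (b i) := by
  simp [desc]

lemma desc_single {C : Type u} [CommRing C] [Algebra A C] (g : Fin n → (B →ₐ[A] C)) (i : Fin n) :
    (desc g).comp (single A B n i) = g i := by
  ext b
  change desc g (single A B n i b) = g i b
  rw [single_apply, desc_tprod, Finset.prod_eq_single i]
  · rw [Pi.mulSingle_eq_same]
  · intro k _ hk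
    rw [Pi.mulSingle_eq_of_ne hk, map_one]
  · intro h; exact absurd (Finset.mem_univ i) h

/-- The permutation of the factors is an algebra homomorphism. -/
lemma desc_perm (σ : Equiv.Perm (Fin n)) (t : TP A n B) :
    desc (fun i => single A B n (σ i)) t = perm n B σ t := by
  have h : (desc (fun i => single A B n (σ i))).toLinearMap = perm (R := A) n B σ := by
    ext b
    change desc (fun i => single A B n (σ i)) (tprod A b) = perm n B σ (tprod A b)
    rw [desc_tprod, perm_tprod]
    simp only [single_apply]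
    rw [← PiTensorProduct.tprod_prod]
    congr 1
    funext k
    rw [Finset.prod_apply, Finset.prod_eq_single (σ.symm k)]
    · rw [Equiv.apply_symm_apply, Pi.mulSingle_eq_same]
    · intro i _ hi
      rw [Pi.mulSingle_eq_of_ne]
      rintro rfl
      exact hi (σ.symm_apply_apply i).symm
    · intro h; exact absurd (Finset.mem_univ _) h
  exact congrArg (fun k => k t) h

end Alg

section Adj

variable {Z : Scheme.{u}} {R R' : CommRingCat.{u}}

/-- the ring homomorphism of a morphism to an affine scheme -/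
noncomputable def rh (z : Z ⟶ Spec R) : R ⟶ Γ(Z, ⊤) := (Scheme.ΓSpecIso R).inv ≫ z.appTop

/-- the morphism to an affine scheme of a ring homomorphism -/
noncomputable def mor (φ : R ⟶ Γ(Z, ⊤)) : Z ⟶ Spec R := Z.toSpecΓ ≫ Spec.map φ

lemma mor_rh (z : Z ⟶ Spec R) : mor (rh z) = z := by
  unfold mor rh
  rw [Spec.map_comp, ← Category.assoc, ← Scheme.toSpecΓ_naturality, Category.assoc,
    toSpecΓ_SpecMap_ΓSpecIso_inv, Category.comp_id]

lemma rh_mor (φ : R ⟶ Γ(Z, ⊤)) : rh (mor φ) = φ := by
  unfold mor rh
  rw [Scheme.Hom.comp_appTop, Scheme.toSpecΓ_appTop, ← Category.assoc,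
    ← Scheme.ΓSpecIso_inv_naturality, Category.assoc, Iso.inv_hom_id, Category.comp_id]

lemma rh_injective {z z' : Z ⟶ Spec R} (h : rh z = rh z') : z = z' := by
  rw [← mor_rh z, h, mor_rh]

lemma rh_comp (z : Z ⟶ Spec R) (ψ : R' ⟶ R) : rh (z ≫ Spec.map ψ) = ψ ≫ rh z := by
  unfold rh
  rw [Scheme.Hom.comp_appTop, ← Category.assoc, ← Scheme.ΓSpecIso_inv_naturality, Category.assoc]

end Adj

section UP

variable (A B : Type u) [CommRing A] [CommRing B] [Algebra A B] (n : ℕ)

/-- The projection to a factor. -/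
noncomputable abbrev sp (i : Fin n) :
    Spec (CommRingCat.of (TP A n B)) ⟶ Spec (CommRingCat.of B) :=
  Spec.map (CommRingCat.ofHom (single A B n i).toRingHom)

/-- The structure map. -/
noncomputable abbrev st : Spec (CommRingCat.of (TP A n B)) ⟶ Spec (CommRingCat.of A) :=
  Spec.map (CommRingCat.ofHom (algebraMap A (TP A n B)))

lemma sp_comp (i : Fin n) :
    sp A B n i ≫ Spec.map (CommRingCat.ofHom (algebraMap A B)) = st A B n := by
  rw [← Spec.map_comp, ← CommRingCat.ofHom_comp]
  congr 2
  exact (single A B n i).comp_algebraMap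

variable {A B n}

lemma map_desc_sp {C : Type u} [CommRing C] [Algebra A C] (g : Fin n → (B →ₐ[A] C)) (i : Fin n) :
    Spec.map (CommRingCat.ofHom (desc g).toRingHom) ≫ sp A B n i =
      Spec.map (CommRingCat.ofHom (g i).toRingHom) := by
  rw [← Spec.map_comp, ← CommRingCat.ofHom_comp]
  exact congrArg (fun k : B →ₐ[A] C => Spec.map (CommRingCat.ofHom k.toRingHom)) (desc_single g i)

lemma map_desc_st {C : Type u} [CommRing C] [Algebra A C] (g : Fin n → (B →ₐ[A] C)) :
    Spec.map (CommRingCat.ofHom (desc g).toRingHom) ≫ st A B n =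
      Spec.map (CommRingCat.ofHom (algebraMap A C)) := by
  rw [← Spec.map_comp, ← CommRingCat.ofHom_comp]
  exact congrArg (fun k => Spec.map (CommRingCat.ofHom k)) (desc g).comp_algebraMap

theorem exists_desc {Z : Scheme.{u}} (z : Fin n → (Z ⟶ Spec (CommRingCat.of B)))
    (z₀ : Z ⟶ Spec (CommRingCat.of A))
    (h : ∀ i, z i ≫ Spec.map (CommRingCat.ofHom (algebraMap A B)) = z₀) :
    ∃ φ : Z ⟶ Spec (CommRingCat.of (TP A n B)), (∀ i, φ ≫ sp A B n i = z i) ∧
      φ ≫ st A B n = z₀ := by
  let : Algebra A Γ(Z, ⊤) := (rh z₀).hom.toAlgebra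
  let g : Fin n → (B →ₐ[A] Γ(Z, ⊤)) := fun i =>
    { (rh (z i)).hom with
      commutes' := fun a => by
        have h1 := congrArg (fun k => k.hom a) ((rh_comp (z i)
          (CommRingCat.ofHom (algebraMap A B))).symm.trans (congrArg rh (h i)))
        exact h1 }
  refine ⟨mor (CommRingCat.ofHom (desc g).toRingHom), fun i => ?_, ?_⟩
  · apply rh_injective
    rw [rh_comp, rh_mor]
    ext b
    exact congrArg (fun k => k b) (desc_single g i)
  · apply rh_injective
    rw [rh_comp, rh_mor]
    ext a
    exact (desc g).commutes a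

theorem spec_hom_ext {Z : Scheme.{u}} {φ φ' : Z ⟶ Spec (CommRingCat.of (TP A n B))}
    (h : ∀ i, φ ≫ sp A B n i = φ' ≫ sp A B n i) (h₀ : φ ≫ st A B n = φ' ≫ st A B n) :
    φ = φ' := by
  apply rh_injective
  let : Algebra A Γ(Z, ⊤) := (rh (φ ≫ st A B n)).hom.toAlgebra
  let u₁ : TP A n B →ₐ[A] Γ(Z, ⊤) :=
    { (rh φ).hom with
      commutes' := fun a => by
        exact (congrArg (fun k => k.hom a) (rh_comp φ
          (CommRingCat.ofHom (algebraMap A (TP A n B))))).symm }
  let u₂ : TP A n B →ₐ[A] Γ(Z, ⊤) :=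
    { (rh φ').hom with
      commutes' := fun a => by
        have h1 := (congrArg (fun k => k.hom a) (rh_comp φ'
          (CommRingCat.ofHom (algebraMap A (TP A n B))))).symm
        exact h1.trans (congrArg (fun k => (rh k).hom a) h₀.symm) }
  have h2 : u₁ = u₂ := by
    apply PiTensorProduct.algHom_ext
    intro i
    ext b
    have h3 := (rh_comp φ (CommRingCat.ofHom (single A B n i).toRingHom)).symm.trans
      ((congrArg rh (h i)).trans (rh_comp φ' (CommRingCat.ofHom (single A B n i).toRingHom)))
    exact congrArg (fun k => k.hom b) h3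
  ext t
  exact congrArg (fun k => k t) h2

end UP

section Chart

variable {X S : Scheme.{u}} {f : X ⟶ S} {A B : Type u} [CommRing A] [CommRing B] [Algebra A B]
  (β : Spec (CommRingCat.of B) ⟶ X) (α : Spec (CommRingCat.of A) ⟶ S)
  (w : Spec.map (CommRingCat.ofHom (algebraMap A B)) ≫ α = β ≫ f) (n : ℕ)

include w in
lemma jj_cond (i : Fin n) : (sp A B n i ≫ β) ≫ f = st A B n ≫ α := by
  rw [Category.assoc, ← w, ← Category.assoc, sp_comp]

/-- The chart of the fibre power. -/
noncomputable def jj : Spec (CommRingCat.of (TP A n B)) ⟶ SymProd.fibPow f n :=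
  lift f (st A B n ≫ α) (fun i => sp A B n i ≫ β) (jj_cond β α w n)

lemma jj_pr (i : Fin n) : jj β α w n ≫ pr f i = sp A B n i ≫ β := lift_pr _ _ _ _ i

lemma jj_base : jj β α w n ≫ base f n = st A B n ≫ α := lift_base _ _ _ _

/-- Equivariance of the chart. -/
lemma jj_permHom (σ : Equiv.Perm (Fin n)) :
    jj β α w n ≫ SymProd.permHom f n σ =
      Spec.map (CommRingCat.ofHom (desc (fun i => single A B n (σ.symm i))).toRingHom) ≫
        jj β α w n := by
  apply hom_ext
  · intro i
    rw [Category.assoc, SymProd.permHom_π, Category.assoc, jj_pr, jj_pr, ← Category.assoc,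
      map_desc_sp]
  · rw [Category.assoc, SymProd.permHom_base, Category.assoc, jj_base, ← Category.assoc,
      map_desc_st]

variable [IsOpenImmersion β] [IsOpenImmersion α]

lemma range_jj_le (x : Spec (CommRingCat.of (TP A n B))) :
    jj β α w n x ∈ box f n β.opensRange α.opensRange := by
  rw [mem_box]
  refine ⟨?_, fun i => ?_⟩
  · rw [← Scheme.Hom.comp_apply, jj_base]
    exact ⟨_, rfl⟩
  · rw [← Scheme.Hom.comp_apply, jj_pr]
    exact ⟨_, rfl⟩

instance mono_jj : Mono (jj β α w n) := by
  refine ⟨fun {Z} a b h => spec_hom_ext (fun i => ?_) ?_⟩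
  · rw [← cancel_mono β, Category.assoc, Category.assoc, ← jj_pr β α w n i, ← Category.assoc, h,
      Category.assoc]
  · rw [← cancel_mono α, Category.assoc, Category.assoc, ← jj_base β α w n, ← Category.assoc, h,
      Category.assoc]

theorem exists_lift_jj {Z : Scheme.{u}} (z : Z ⟶ SymProd.fibPow f n)
    (hz : ∀ x, z x ∈ box f n β.opensRange α.opensRange) :
    ∃ φ : Z ⟶ Spec (CommRingCat.of (TP A n B)), φ ≫ jj β α w n = z := by
  have h1 : ∀ i, Set.range (z ≫ pr f i) ⊆ Set.range β := by
    rintro i _ ⟨x, rfl⟩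
    exact ((mem_box.1 (hz x)).2 i)
  have h2 : Set.range (z ≫ base f n) ⊆ Set.range α := by
    rintro _ ⟨x, rfl⟩
    exact (mem_box.1 (hz x)).1
  obtain ⟨φ, hφ, hφ₀⟩ := exists_desc (A := A) (n := n)
    (fun i => IsOpenImmersion.lift β (z ≫ pr f i) (h1 i))
    (IsOpenImmersion.lift α (z ≫ base f n) h2) (fun i => by
      rw [← cancel_mono α, Category.assoc, w, ← Category.assoc, IsOpenImmersion.lift_fac,
        IsOpenImmersion.lift_fac, Category.assoc, pr_comp])
  refine ⟨φ, ?_⟩
  apply hom_ext
  · intro i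
    rw [Category.assoc, jj_pr, ← Category.assoc, hφ, IsOpenImmersion.lift_fac]
  · rw [Category.assoc, jj_base, ← Category.assoc, hφ₀, IsOpenImmersion.lift_fac]

/-- The chart is an open immersion onto the box. -/
theorem exists_iso_box : ∃ e : (box f n β.opensRange α.opensRange : Scheme.{u}) ≅
    Spec (CommRingCat.of (TP A n B)), e.hom ≫ jj β α w n = (box f n β.opensRange α.opensRange).ι := by
  obtain ⟨ψ, hψ⟩ := exists_lift_jj β α w n (box f n β.opensRange α.opensRange).ι (fun x => x.2)
  have h1 : Set.range (jj β α w n) ⊆ Set.range (box f n β.opensRange α.opensRange).ι := by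
    rintro _ ⟨x, rfl⟩
    rw [Scheme.Opens.range_ι]
    exact range_jj_le β α w n x
  let ι' := IsOpenImmersion.lift (box f n β.opensRange α.opensRange).ι (jj β α w n) h1
  have h2 : ι' ≫ (box f n β.opensRange α.opensRange).ι = jj β α w n :=
    IsOpenImmersion.lift_fac _ _ _
  refine ⟨⟨ψ, ι', ?_, ?_⟩, hψ⟩
  · rw [← cancel_mono (box f n β.opensRange α.opensRange).ι, Category.assoc, h2, hψ,
      Category.id_comp]
  · rw [← cancel_mono (jj β α w n), Category.assoc, hψ, h2, Category.id_comp]

instance isOpenImmersion_jj : IsOpenImmersion (jj β α w n) := by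
  obtain ⟨e, he⟩ := exists_iso_box β α w n
  have : jj β α w n = e.inv ≫ (box f n β.opensRange α.opensRange).ι := by
    rw [← he, Iso.inv_hom_id_assoc]
  rw [this]
  infer_instance

theorem opensRange_jj : (jj β α w n).opensRange = box f n β.opensRange α.opensRange := by
  obtain ⟨e, he⟩ := exists_iso_box β α w n
  ext x
  constructor
  · rintro ⟨y, rfl⟩
    exact range_jj_le β α w n y
  · intro hx
    refine ⟨e.hom ⟨x, hx⟩, ?_⟩
    rw [← Scheme.Hom.comp_apply, he]
    rfl

end Chart

end K992.SpecPow
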