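import Groth.Agent.SymProd.K992.ChartThm
import Groth.Agent.SymProd.K992.GoodSch

/-!
# Symmetric products of flat morphisms have good charts
-/

set_option autoImplicit false
set_option backward.isDefEq.respectTransparency false
universe u

open CategoryTheory CategoryTheory.Limits AlgebraicGeometry

namespace K992.SymGood

open K992.FibPow K992.Charts K992.SpecPow K992.ChartThm K992.GoodInv K992.GoodSch K992.TensPow
open Groth.Agent.Sga1.QuotBasic

lemma isIso_appLE_top {Z W : Scheme.{u}} (f : Z ⟶ W) [IsOpenImmersion f] (V : W.Opens)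
    (hV : V = f ''ᵁ ⊤) (e : ⊤ ≤ f ⁻¹ᵁ V) : IsIso (f.appLE V ⊤ e) := by
  subst hV
  rw [← Scheme.Hom.appIso_hom']
  infer_instance

variable {X S : Scheme.{u}} {f : X ⟶ S} (n : ℕ)

section Chart

variable {U : X.Opens} (hU : IsAffineOpen U) {V : S.Opens} (hV : IsAffineOpen V)
  (h : U ≤ f ⁻¹ᵁ V)

/-- The chart of the box. -/
noncomputable def chart : letI := secAlg h
    Spec (CommRingCat.of (TP Γ(S, V) n Γ(X, U))) ⟶ SymProd.fibPow f n :=
  letI := secAlg h
  jj hU.fromSpec hV.fromSpec (chart_w hU hV h) n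

instance isOpenImmersion_chart : letI := secAlg h
    IsOpenImmersion (chart n hU hV h) := by
  let := secAlg h
  exact isOpenImmersion_jj hU.fromSpec hV.fromSpec (chart_w hU hV h) n

lemma opensRange_chart : letI := secAlg h
    (chart n hU hV h) ''ᵁ ⊤ = box f n U V := by
  let := secAlg h
  have h1 := opensRange_jj hU.fromSpec hV.fromSpec (chart_w hU hV h) n
  rw [IsAffineOpen.opensRange_fromSpec, IsAffineOpen.opensRange_fromSpec] at h1
  rw [Scheme.Hom.image_top_eq_opensRange]
  exact h1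

lemma chart_le : letI := secAlg h
    ⊤ ≤ (chart n hU hV h) ⁻¹ᵁ box f n U V := by
  let := secAlg h
  rw [← opensRange_chart n hU hV h]
  exact fun x _ => ⟨x, trivial, rfl⟩

/-- The sections over the box. -/
noncomputable def kap : letI := secAlg h
    Γ(SymProd.fibPow f n, box f n U V) ⟶ CommRingCat.of (TP Γ(S, V) n Γ(X, U)) :=
  letI := secAlg h
  (chart n hU hV h).appLE (box f n U V) ⊤ (chart_le n hU hV h) ≫ (Scheme.ΓSpecIso _).hom

instance isIso_kap : letI := secAlg h
    IsIso (kap n hU hV h) := by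
  let := secAlg h
  have := isIso_appLE_top (chart n hU hV h) (box f n U V) (opensRange_chart n hU hV h).symm
    (chart_le n hU hV h)
  unfold kap
  infer_instance

lemma box_le_base : box f n U V ≤ (base f n) ⁻¹ᵁ V := fun _ hx => hx.1

lemma base_kap : letI := secAlg h
    (base f n).appLE V (box f n U V) (box_le_base n) ≫ kap n hU hV h =
      CommRingCat.ofHom (algebraMap Γ(S, V) (TP Γ(S, V) n Γ(X, U))) := by
  let := secAlg h
  unfold kap
  rw [← Category.assoc, Scheme.Hom.appLE_comp_appLE]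
  have h1 : chart n hU hV h ≫ base f n = st Γ(S, V) Γ(X, U) n ≫ hV.fromSpec :=
    jj_base hU.fromSpec hV.fromSpec (chart_w hU hV h) n
  rw [appLE_congr_hom h1]
  have h2 : (⊤ : (Spec Γ(S, V)).Opens) ≤ hV.fromSpec ⁻¹ᵁ V := by
    rw [hV.fromSpec_preimage_self]
  rw [← Scheme.Hom.appLE_comp_appLE _ _ V ⊤ ⊤ h2 le_top]
  have h3 : hV.fromSpec.appLE V ⊤ h2 = (Scheme.ΓSpecIso Γ(S, V)).inv := by
    rw [Scheme.Hom.appLE, hV.fromSpec_app_self, Category.assoc, ← Functor.map_comp]
    have h5 : ∀ (k : Opposite.op (⊤ : (Spec Γ(S, V)).Opens) ⟶ Opposite.op ⊤),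
        (Spec Γ(S, V)).presheaf.map k = 𝟙 _ := fun k => by
      rw [Subsingleton.elim k (𝟙 _), (Spec Γ(S, V)).presheaf.map_id]
    rw [h5]
    exact Category.comp_id _
  have h4 : (st Γ(S, V) Γ(X, U) n).appLE ⊤ ⊤ le_top =
      (st Γ(S, V) Γ(X, U) n).appTop := by
    rw [Scheme.Hom.appTop, Scheme.Hom.app_eq_appLE]
    rfl
  rw [h3, h4, Category.assoc, Iso.inv_comp_eq]
  exact Scheme.ΓSpecIso_naturality _

lemma perm_kap (σ : Equiv.Perm (Fin n)) : letI := secAlg h
    (SymProd.permHom f n σ).appLE (box f n U V) (box f n U V) (preimage_box σ).ge ≫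
      kap n hU hV h = kap n hU hV h ≫
      CommRingCat.ofHom (desc (fun i => single Γ(S, V) Γ(X, U) n (σ.symm i))).toRingHom := by
  let := secAlg h
  unfold kap
  rw [← Category.assoc, Scheme.Hom.appLE_comp_appLE]
  have h1 : chart n hU hV h ≫ SymProd.permHom f n σ =
      Spec.map (CommRingCat.ofHom
        (desc (fun i => single Γ(S, V) Γ(X, U) n (σ.symm i))).toRingHom) ≫ chart n hU hV h :=
    jj_permHom hU.fromSpec hV.fromSpec (chart_w hU hV h) n σ
  rw [appLE_congr_hom h1]
  rw [← Scheme.Hom.appLE_comp_appLE _ _ (box f n U V) ⊤ ⊤ (chart_le n hU hV h) le_top]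
  rw [Category.assoc, Category.assoc]
  congr 1
  have h4 : (Spec.map (CommRingCat.ofHom
        (desc (fun i => single Γ(S, V) Γ(X, U) n (σ.symm i))).toRingHom)).appLE ⊤ ⊤ le_top =
      (Spec.map (CommRingCat.ofHom
        (desc (fun i => single Γ(S, V) Γ(X, U) n (σ.symm i))).toRingHom)).appTop := by
    rw [Scheme.Hom.appTop, Scheme.Hom.app_eq_appLE]
    rfl
  rw [h4]
  exact Scheme.ΓSpecIso_naturality _

/-- The sections of the box as tensor power. -/
noncomputable def kapEquiv : letI := secAlg h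
    letI := ((base f n).appLE V (box f n U V) (box_le_base n)).hom.toAlgebra
    Γ(SymProd.fibPow f n, box f n U V) ≃ₗ[Γ(S, V)] TP Γ(S, V) n Γ(X, U) :=
  letI := secAlg h
  letI := ((base f n).appLE V (box f n U V) (box_le_base n)).hom.toAlgebra
  LinearEquiv.ofBijective
    (AlgHom.toLinearMap { (kap n hU hV h).hom with
      commutes' := fun r => congrArg (fun k => k.hom r) (base_kap n hU hV h) })
    (ConcreteCategory.bijective_of_isIso (kap n hU hV h))

lemma kapEquiv_apply (s : Γ(SymProd.fibPow f n, box f n U V)) : letI := secAlg h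
    letI := ((base f n).appLE V (box f n U V) (box_le_base n)).hom.toAlgebra
    kapEquiv n hU hV h s = (kap n hU hV h).hom s := rfl

include hU hV h in
/-- The box is a good chart. -/
theorem goodAt_box [Flat f] {O : (SymProd.fibPow f n).Opens} (hOeq : O = box f n U V)
    {b : SymProd.fibPow f n ⟶ S} (hbeq : b = base f n)
    (hb : ∀ σ, (SymProd.permActU f n σ).hom ≫ b = b)
    (hO : Stable (SymProd.permActU f n) O) (e : O ≤ b ⁻¹ᵁ V) :
    GoodAt (SymProd.permActU f n) hb hO e := by
  subst hOeq hbeq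
  let := secAlg h
  let := ((base f n).appLE V (box f n U V) (box_le_base n)).hom.toAlgebra
  have hflat : Module.Flat Γ(S, V) Γ(X, U) := f.flat_appLE hV hU h
  refine Good.of_equiv (good_perm (R := Γ(S, V)) (M := Γ(X, U)) n)
    (kapEquiv n hU hV h).symm (fun σ : ULift (Equiv.Perm (Fin n)) => σ.down.symm)
    (fun σ => ⟨⟨σ.symm⟩, σ.symm_symm⟩) ?_
  intro σ t
  obtain ⟨s, rfl⟩ := (kapEquiv n hU hV h).surjective t
  rw [LinearEquiv.symm_apply_apply, LinearEquiv.eq_symm_apply]
  have h1 := congrArg (fun k => k.hom s) (perm_kap n hU hV h σ.down)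
  rw [← desc_perm]
  exact h1

end Chart

/-- **Symmetric products of flat morphisms have good charts.** -/
theorem hasGood [Flat f] (hAF : SymProd.IsAF f) {Y : Scheme.{u}} {q : SymProd.fibPow f n ⟶ Y}
    {g : Y ⟶ S} (hq : SymProd.IsSymProd f n q g) : HasGood hq.isQuot g := by
  intro y V hV hy
  obtain ⟨U, hU, hUV, W, hyW, hWaff, hWeq⟩ := exists_chart hAF hq y V hV hy
  have hW : W ≤ g ⁻¹ᵁ V := by
    intro y' hy'
    obtain ⟨x, rfl⟩ := surjective_of_isQuot hq.isQuot y'
    have h1 : x ∈ box f n U V := by rw [← hWeq]; exact hy'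
    have h2 := (mem_box.1 h1).1
    change g (q x) ∈ V
    rw [← Scheme.Hom.comp_apply, hq.over]
    exact h2
  exact ⟨W, hW, hyW, hWaff, goodAt_box n hU hV hUV hWeq hq.over _ _ _⟩

end K992.SymGood
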