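import Groth.Agent.SymProd.K992.GoodInv

/-!
# Tensor powers of flat modules: invariants commute with tensor products
-/

set_option autoImplicit false
universe u v w

open TensorProduct PiTensorProduct

namespace K992.TensPow

open K992.GoodInv

section Functor

variable (R : Type u) [CommRing R] (n : ℕ) {M M' M'' : Type v} [AddCommGroup M] [Module R M]
  [AddCommGroup M'] [Module R M'] [AddCommGroup M''] [Module R M'']

/-- The tensor power. -/
abbrev TP (M : Type v) [AddCommGroup M] [Module R M] : Type _ := ⨂[R] (_ : Fin n), M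

variable {R}

/-- Functoriality of the tensor power. -/
noncomputable def tmap (θ : M →ₗ[R] M') : TP R n M →ₗ[R] TP R n M' :=
  PiTensorProduct.map (fun _ => θ)

lemma tmap_tprod (θ : M →ₗ[R] M') (m : Fin n → M) :
    tmap n θ (tprod R m) = tprod R (fun i => θ (m i)) := PiTensorProduct.map_tprod _ _

lemma tmap_comp (θ' : M' →ₗ[R] M'') (θ : M →ₗ[R] M') :
    tmap n (θ' ∘ₗ θ) = tmap n θ' ∘ₗ tmap n θ :=
  PiTensorProduct.map_comp _ _

lemma tmap_id : tmap n (LinearMap.id : M →ₗ[R] M) = LinearMap.id := PiTensorProduct.map_id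

/-- The permutation of the factors. -/
noncomputable def perm (M : Type v) [AddCommGroup M] [Module R M] (σ : Equiv.Perm (Fin n)) :
    TP R n M →ₗ[R] TP R n M :=
  (PiTensorProduct.reindex R (fun _ => M) σ).toLinearMap

lemma perm_tprod (σ : Equiv.Perm (Fin n)) (m : Fin n → M) :
    perm n M σ (tprod R m) = tprod R (fun i => m (σ.symm i)) := PiTensorProduct.reindex_tprod _ _

lemma tmap_perm (θ : M →ₗ[R] M') (σ : Equiv.Perm (Fin n)) :
    tmap n θ ∘ₗ perm n M σ = perm n M' σ ∘ₗ tmap n θ := by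
  ext m
  simp only [LinearMap.compMultilinearMap_apply, LinearMap.coe_comp, Function.comp_apply,
    perm_tprod, tmap_tprod]

/-- Adding one more factor. -/
noncomputable def snoc (M : Type v) [AddCommGroup M] [Module R M] :
    TP R n M ⊗[R] M ≃ₗ[R] TP R (n + 1) M :=
  (LinearEquiv.lTensor (TP R n M)
    (PiTensorProduct.subsingletonEquiv (R := R) (s := fun _ : Fin 1 => M) (0 : Fin 1)).symm) ≪≫ₗ
    TensorPower.mulEquiv

lemma snoc_tprod (m : Fin n → M) (x : M) :
    snoc n M ((tprod R m) ⊗ₜ[R] x) = tprod R (Fin.append m (fun _ : Fin 1 => x)) := by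
  rw [snoc, LinearEquiv.trans_apply, LinearEquiv.lTensor_tmul]
  rw [PiTensorProduct.subsingletonEquiv_symm_apply']
  exact TensorPower.tprod_mul_tprod R m (fun _ : Fin 1 => x)

lemma tmap_snoc (θ : M →ₗ[R] M') :
    tmap (n + 1) θ ∘ₗ (snoc n M).toLinearMap =
      (snoc n M').toLinearMap ∘ₗ TensorProduct.map (tmap n θ) θ := by
  apply TensorProduct.ext
  ext m x
  simp only [LinearMap.compMultilinearMap_apply, LinearMap.compr₂ₛₗ_apply, LinearMap.coe_comp,
    LinearEquiv.coe_coe, Function.comp_apply, TensorProduct.mk_apply,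
    TensorProduct.map_tmul, tmap_tprod, snoc_tprod]
  congr 1
  funext i
  induction i using Fin.addCases with
  | left i => simp
  | right i => simp

end Functor

section Kill

variable {R : Type u} [CommRing R] {M : Type u} [AddCommGroup M] [Module R M] [Module.Flat R M]

/-- The equational criterion with coefficients. -/
theorem exists_kill (N : Type u) [AddCommGroup N] [Module R N] {F : Type u} [AddCommGroup F]
    [Module R F] [Module.Free R F] [Module.Finite R F] (π : F →ₗ[R] M) (w : N ⊗[R] F)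
    (h : π.lTensor N w = 0) : ∃ (k : ℕ) (θ : F →ₗ[R] (Fin k →₀ R)) (π' : (Fin k →₀ R) →ₗ[R] M),
      π = π' ∘ₗ θ ∧ θ.lTensor N w = 0 := by
  classical
  let e := (Module.Free.chooseBasis R F).reindex (Fintype.equivFin _)
  let ν := TensorProduct.equivFinsuppOfBasisRight e w
  have hw : w = ∑ i, ν i ⊗ₜ[R] e i := by
    have h1 : w = (TensorProduct.equivFinsuppOfBasisRight e).symm ν :=
      (LinearEquiv.symm_apply_apply _ _).symm
    rw [TensorProduct.equivFinsuppOfBasisRight_symm_apply, Finsupp.sum_fintype] at h1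
    · exact h1
    · intro i; exact TensorProduct.zero_tmul _ _
  have h2 : ∑ i, ν i ⊗ₜ[R] π (e i) = 0 := by
    rw [hw, map_sum] at h
    exact h
  obtain ⟨k, a, y, h3, h4⟩ :=
    TensorProduct.vanishesTrivially_of_sum_tmul_eq_zero_of_rTensor_injective R
      (Module.Flat.rTensor_preserves_injective_linearMap _ (Submodule.subtype_injective _)) h2
  refine ⟨k, e.constr R (fun i => ∑ j, Finsupp.single j (a i j)), Finsupp.linearCombination R y,
    ?_, ?_⟩
  · apply e.ext
    intro i
    rw [LinearMap.comp_apply, Module.Basis.constr_basis, map_sum]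
    refine (h3 i).trans (Finset.sum_congr rfl fun j _ => ?_)
    rw [Finsupp.linearCombination_single]
  · rw [hw, map_sum]
    simp only [LinearMap.lTensor_tmul, Module.Basis.constr_basis, TensorProduct.tmul_sum]
    rw [Finset.sum_comm]
    have h5 : ∀ j : Fin k, ∑ i, ν i ⊗ₜ[R] Finsupp.single j (a i j) =
        (∑ i, a i j • ν i) ⊗ₜ[R] Finsupp.single j (1 : R) := by
      intro j
      rw [TensorProduct.sum_tmul]
      refine Finset.sum_congr rfl fun i _ => ?_
      rw [TensorProduct.smul_tmul, Finsupp.smul_single, smul_eq_mul, mul_one]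
    simp only [h5, h4, TensorProduct.zero_tmul, Finset.sum_const_zero]

/-- The multilinear version of the equational criterion. -/
theorem exists_kill_pow (n : ℕ) (N : Type u) [AddCommGroup N] [Module R N] {F : Type u}
    [AddCommGroup F] [Module R F] [Module.Free R F] [Module.Finite R F] (π : F →ₗ[R] M)
    (w : N ⊗[R] TP R n F) (h : (tmap n π).lTensor N w = 0) :
    ∃ (k : ℕ) (θ : F →ₗ[R] (Fin k →₀ R)) (π' : (Fin k →₀ R) →ₗ[R] M),
      π = π' ∘ₗ θ ∧ (tmap n θ).lTensor N w = 0 := by
  induction n generalizing N F with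
  | zero =>
    let e := ((Module.Free.chooseBasis R F).reindex (Fintype.equivFin _)).repr
    refine ⟨_, e.toLinearMap, π ∘ₗ e.symm.toLinearMap, ?_, ?_⟩
    · ext x; simp
    · have h1 : (tmap 0 π).lTensor N w = 0 ↔ w = 0 := by
        have : Function.Injective ((tmap 0 π).lTensor N) := by
          let E : TP R 0 F ≃ₗ[R] TP R 0 M :=
            (PiTensorProduct.isEmptyEquiv (Fin 0)).trans (PiTensorProduct.isEmptyEquiv (Fin 0)).symm
          have hE : tmap 0 π = E.toLinearMap := by
            ext m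
            simp only [LinearMap.compMultilinearMap_apply, tmap_tprod, LinearEquiv.coe_coe]
            apply (PiTensorProduct.isEmptyEquiv (Fin 0)).injective
            simp [E]
          rw [hE]
          exact (LinearEquiv.lTensor N E).injective
        exact ⟨fun h => this (h.trans (map_zero _).symm), fun h => by rw [h, map_zero]⟩
      rw [h1.1 h, map_zero]
  | succ n ih =>
    -- transport to `N ⊗ (T^n F ⊗ F)`
    let w' : N ⊗[R] (TP R n F ⊗[R] F) := (LinearEquiv.lTensor N (snoc n F)).symm w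
    have hw' : (snoc n F).toLinearMap.lTensor N w' = w :=
      (LinearEquiv.lTensor N (snoc n F)).apply_symm_apply w
    have key : ∀ {F' : Type u} [AddCommGroup F'] [Module R F'] (θ : F →ₗ[R] F'),
        (tmap (n + 1) θ).lTensor N w = (snoc n F').toLinearMap.lTensor N
          ((TensorProduct.map (tmap n θ) θ).lTensor N w') := by
      intro F' _ _ θ
      rw [← hw', ← LinearMap.comp_apply, ← LinearMap.comp_apply, ← LinearMap.lTensor_comp,
        ← LinearMap.lTensor_comp, tmap_snoc]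
    have h1 : (TensorProduct.map (tmap n π) π).lTensor N w' = 0 := by
      have h2 := key π
      rw [h] at h2
      exact (LinearEquiv.lTensor N (snoc n M)).injective (h2.symm.trans (map_zero _).symm)
    -- the first step
    let α : ∀ (P Q : Type u) [AddCommMonoid P] [Module R P] [AddCommMonoid Q] [Module R Q],
        N ⊗[R] (P ⊗[R] Q) ≃ₗ[R] (N ⊗[R] Q) ⊗[R] P := fun P Q _ _ _ _ =>
      (LinearEquiv.lTensor N (TensorProduct.comm R P Q)) ≪≫ₗ (TensorProduct.assoc R N Q P).symm
    have hα : ∀ {P P' : Type u} (Q : Type u) [AddCommMonoid P] [Module R P] [AddCommMonoid Q]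
        [Module R Q] [AddCommMonoid P'] [Module R P'] (g : P →ₗ[R] P') (x : N ⊗[R] (P ⊗[R] Q)),
        α P' Q ((g.rTensor Q).lTensor N x) = g.lTensor (N ⊗[R] Q) (α P Q x) := by
      intro P P' Q _ _ _ _ _ _ g x
      induction x with
      | zero => simp
      | add x y hx hy => simp only [map_add, hx, hy]
      | tmul ν y =>
        induction y with
        | zero => simp
        | add x y hx hy => simp only [TensorProduct.tmul_add, map_add, hx, hy]
        | tmul p q => simp [α]
    obtain ⟨k₁, θ₁, π₁, hπ₁, hθ₁⟩ := ih (N ⊗[R] M) π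
      (α _ _ ((π.lTensor (TP R n F)).lTensor N w')) (by
        rw [← hα, ← LinearMap.comp_apply, ← LinearMap.lTensor_comp]
        have h3 : (tmap n π).rTensor M ∘ₗ π.lTensor (TP R n F) = TensorProduct.map (tmap n π) π := by
          ext; simp
        rw [h3, h1, map_zero])
    have h4 : (TensorProduct.map (tmap n θ₁) π).lTensor N w' = 0 := by
      rw [← hα] at hθ₁
      have h5 := (α _ _).injective (hθ₁.trans (map_zero _).symm)
      rw [← LinearMap.comp_apply, ← LinearMap.lTensor_comp] at h5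
      have h3 : (tmap n θ₁).rTensor M ∘ₗ π.lTensor (TP R n F) =
          TensorProduct.map (tmap n θ₁) π := by
        ext; simp
      rw [h3] at h5
      exact h5
    -- the second step
    let F₁ : Type u := Fin k₁ →₀ R
    let β : ∀ (P Q : Type u) [AddCommMonoid P] [Module R P] [AddCommMonoid Q] [Module R Q],
        N ⊗[R] (P ⊗[R] Q) ≃ₗ[R] (N ⊗[R] P) ⊗[R] Q := fun P Q _ _ _ _ =>
      (TensorProduct.assoc R N P Q).symm
    have hβ : ∀ (P : Type u) {Q Q' : Type u} [AddCommMonoid P] [Module R P] [AddCommMonoid Q]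
        [Module R Q] [AddCommMonoid Q'] [Module R Q'] (g : Q →ₗ[R] Q') (x : N ⊗[R] (P ⊗[R] Q)),
        β P Q' ((g.lTensor P).lTensor N x) = g.lTensor (N ⊗[R] P) (β P Q x) := by
      intro P Q Q' _ _ _ _ _ _ g x
      induction x with
      | zero => simp
      | add x y hx hy => simp only [map_add, hx, hy]
      | tmul ν y =>
        induction y with
        | zero => simp
        | add x y hx hy => simp only [TensorProduct.tmul_add, map_add, hx, hy]
        | tmul p q => simp [β]
    obtain ⟨k₂, θ₂, π₂, hπ₂, hθ₂⟩ := exists_kill (N ⊗[R] TP R n F₁) π₁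
      (β _ _ ((TensorProduct.map (tmap n θ₁) θ₁).lTensor N w')) (by
        rw [← hβ, ← LinearMap.comp_apply, ← LinearMap.lTensor_comp]
        have h3 : π₁.lTensor (TP R n F₁) ∘ₗ TensorProduct.map (tmap n θ₁) θ₁ =
            TensorProduct.map (tmap n θ₁) π := by
          rw [hπ₁]; ext; simp
        rw [h3, h4, map_zero])
    refine ⟨k₂, θ₂ ∘ₗ θ₁, π₂, ?_, ?_⟩
    · rw [← LinearMap.comp_assoc, ← hπ₂, hπ₁]
    · rw [key]
      have h6 : TensorProduct.map (tmap n (θ₂ ∘ₗ θ₁)) (θ₂ ∘ₗ θ₁) =
          (tmap n θ₂).rTensor (Fin k₂ →₀ R) ∘ₗ (θ₂.lTensor (TP R n F₁) ∘ₗ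
            TensorProduct.map (tmap n θ₁) θ₁) := by
        rw [tmap_comp]; ext; simp
      have h7 : (θ₂.lTensor (TP R n F₁) ∘ₗ
            TensorProduct.map (tmap n θ₁) θ₁).lTensor N w' = 0 := by
        rw [LinearMap.lTensor_comp, LinearMap.comp_apply]
        rw [← hβ] at hθ₂
        exact (β _ _).injective (hθ₂.trans (map_zero _).symm)
      rw [h6, LinearMap.lTensor_comp, LinearMap.comp_apply, h7, map_zero, map_zero]

/-- Killing finitely many elements at once. -/
theorem exists_kill_pow_finset (n : ℕ) (N : Type u) [AddCommGroup N] [Module R N] {F : Type u}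
    [AddCommGroup F] [Module R F] [Module.Free R F] [Module.Finite R F] (π : F →ₗ[R] M)
    {ι : Type*} (s : Finset ι) (w : ι → N ⊗[R] TP R n F)
    (h : ∀ i ∈ s, (tmap n π).lTensor N (w i) = 0) :
    ∃ (k : ℕ) (θ : F →ₗ[R] (Fin k →₀ R)) (π' : (Fin k →₀ R) →ₗ[R] M),
      π = π' ∘ₗ θ ∧ ∀ i ∈ s, (tmap n θ).lTensor N (w i) = 0 := by
  classical
  induction s using Finset.induction_on with
  | empty =>
    let e := ((Module.Free.chooseBasis R F).reindex (Fintype.equivFin _)).repr
    refine ⟨_, e.toLinearMap, π ∘ₗ e.symm.toLinearMap, ?_, fun i hi => absurd hi (by simp)⟩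
    ext x; simp
  | insert i s hi ih =>
    obtain ⟨k, θ, π', h1, h2⟩ := ih (fun j hj => h j (Finset.mem_insert_of_mem hj))
    obtain ⟨k₂, θ₂, π₂, h3, h4⟩ := exists_kill_pow n N π' ((tmap n θ).lTensor N (w i)) (by
      rw [← LinearMap.comp_apply, ← LinearMap.lTensor_comp, ← tmap_comp, ← h1]
      exact h i (Finset.mem_insert_self _ _))
    refine ⟨k₂, θ₂ ∘ₗ θ, π₂, by rw [← LinearMap.comp_assoc, ← h3, h1], fun j hj => ?_⟩
    rw [tmap_comp, LinearMap.lTensor_comp, LinearMap.comp_apply]
    rcases Finset.mem_insert.1 hj with rfl | hj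
    · exact h4
    · rw [h2 j hj, map_zero]

omit [Module.Flat R M] in
/-- Two maps from finite free modules factor through a third one. -/
lemma directed {k₁ k₂ : ℕ} (π₁ : (Fin k₁ →₀ R) →ₗ[R] M) (π₂ : (Fin k₂ →₀ R) →ₗ[R] M) :
    ∃ (k : ℕ) (π : (Fin k →₀ R) →ₗ[R] M) (θ₁ : (Fin k₁ →₀ R) →ₗ[R] (Fin k →₀ R))
      (θ₂ : (Fin k₂ →₀ R) →ₗ[R] (Fin k →₀ R)), π₁ = π ∘ₗ θ₁ ∧ π₂ = π ∘ₗ θ₂ := by
  let e := ((Module.Free.chooseBasis R ((Fin k₁ →₀ R) × (Fin k₂ →₀ R))).reindex
    (Fintype.equivFin _)).repr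
  refine ⟨_, π₁.coprod π₂ ∘ₗ e.symm.toLinearMap, e.toLinearMap ∘ₗ LinearMap.inl R _ _,
    e.toLinearMap ∘ₗ LinearMap.inr R _ _, ?_, ?_⟩
  · apply LinearMap.ext; intro x; simp
  · apply LinearMap.ext; intro x; simp

omit [Module.Flat R M] in
/-- Every tensor comes from a finite free module. -/
theorem exists_lift (n : ℕ) (N : Type u) [AddCommGroup N] [Module R N] (z : N ⊗[R] TP R n M) :
    ∃ (k : ℕ) (π : (Fin k →₀ R) →ₗ[R] M) (z' : N ⊗[R] TP R n (Fin k →₀ R)),
      (tmap n π).lTensor N z' = z := by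
  have hadd : ∀ {z₁ z₂ : N ⊗[R] TP R n M},
      (∃ (k : ℕ) (π : (Fin k →₀ R) →ₗ[R] M) (z' : N ⊗[R] TP R n (Fin k →₀ R)),
        (tmap n π).lTensor N z' = z₁) →
      (∃ (k : ℕ) (π : (Fin k →₀ R) →ₗ[R] M) (z' : N ⊗[R] TP R n (Fin k →₀ R)),
        (tmap n π).lTensor N z' = z₂) →
      (∃ (k : ℕ) (π : (Fin k →₀ R) →ₗ[R] M) (z' : N ⊗[R] TP R n (Fin k →₀ R)),
        (tmap n π).lTensor N z' = z₁ + z₂) := by
    rintro _ _ ⟨k₁, π₁, y₁, rfl⟩ ⟨k₂, π₂, y₂, rfl⟩
    obtain ⟨k, π, θ₁, θ₂, h1, h2⟩ := directed π₁ π₂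
    refine ⟨k, π, (tmap n θ₁).lTensor N y₁ + (tmap n θ₂).lTensor N y₂, ?_⟩
    rw [map_add, ← LinearMap.comp_apply, ← LinearMap.comp_apply, ← LinearMap.lTensor_comp,
      ← LinearMap.lTensor_comp, ← tmap_comp, ← tmap_comp, ← h1, ← h2]
  induction z with
  | zero => exact ⟨0, 0, 0, map_zero _⟩
  | add x y hx hy => exact hadd hx hy
  | tmul ν t =>
    induction t using PiTensorProduct.induction_on with
    | smul_tprod r m =>
      refine ⟨n, Finsupp.linearCombination R m,
        ν ⊗ₜ (r • tprod R (fun i => Finsupp.single i (1 : R))), ?_⟩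
      rw [LinearMap.lTensor_tmul, map_smul, tmap_tprod]
      simp
    | add x y hx hy =>
      rw [TensorProduct.tmul_add]
      exact hadd hx hy

end Kill

section Main

variable {R : Type u} [CommRing R]

/-- The free case. -/
theorem good_perm_of_basis (n : ℕ) {F : Type u} [AddCommGroup F] [Module R F] {κ : Type*}
    (e : Module.Basis κ R F) : Good (perm (R := R) n F) := by
  let : MulAction (Equiv.Perm (Fin n)) (Fin n → κ) := arrowAction
  refine good_of_basis (Basis.piTensorProduct (fun _ : Fin n => e)) (perm n F) ?_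
  intro σ p
  rw [Basis.piTensorProduct_apply, Basis.piTensorProduct_apply, perm_tprod]
  rfl

variable {M : Type u} [AddCommGroup M] [Module R M]

/-- Functoriality of the symmetric tensors. -/
noncomputable def tinv (n : ℕ) {F : Type u} [AddCommGroup F] [Module R F] (π : F →ₗ[R] M) :
    inv (perm (R := R) n F) →ₗ[R] inv (perm (R := R) n M) :=
  (tmap n π).restrict (p := inv (perm (R := R) n F)) (q := inv (perm (R := R) n M))
    (fun x hx σ => by
      rw [← LinearMap.comp_apply, ← tmap_perm, LinearMap.comp_apply, hx σ])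

lemma subtype_tinv (n : ℕ) {F : Type u} [AddCommGroup F] [Module R F] (π : F →ₗ[R] M) :
    (inv (perm (R := R) n M)).subtype ∘ₗ tinv n π =
      tmap n π ∘ₗ (inv (perm (R := R) n F)).subtype := rfl

lemma tinv_comp (n : ℕ) {F F' : Type u} [AddCommGroup F] [Module R F] [AddCommGroup F']
    [Module R F'] (π : F' →ₗ[R] M) (θ : F →ₗ[R] F') :
    tinv n (π ∘ₗ θ) = tinv n π ∘ₗ tinv n θ := by
  ext ⟨x, hx⟩
  change tmap n (π ∘ₗ θ) x = tmap n π (tmap n θ x)
  rw [tmap_comp]; rfl

variable [Module.Flat R M]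

theorem surj_flat (n : ℕ) (N : Type u) [AddCommGroup N] [Module R N] (z : N ⊗[R] TP R n M)
    (hz : ∀ σ, (perm n M σ).lTensor N z = z) :
    ∃ (k : ℕ) (π : (Fin k →₀ R) →ₗ[R] M) (y : N ⊗[R] inv (perm (R := R) n (Fin k →₀ R))),
      (tmap n π ∘ₗ (inv (perm (R := R) n (Fin k →₀ R))).subtype).lTensor N y = z := by
  obtain ⟨k, π, z', rfl⟩ := exists_lift n N z
  obtain ⟨k', θ, π', h1, h2⟩ := exists_kill_pow_finset n N π
    (Finset.univ : Finset (Equiv.Perm (Fin n)))
    (fun σ => (perm n _ σ).lTensor N z' - z') (fun σ _ => by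
      rw [map_sub, sub_eq_zero, ← LinearMap.comp_apply, ← LinearMap.lTensor_comp, tmap_perm,
        LinearMap.lTensor_comp, LinearMap.comp_apply, hz])
  have hg : Good (perm (R := R) n (Fin k' →₀ R)) := good_perm_of_basis n Finsupp.basisSingleOne
  obtain ⟨y, hy⟩ := hg.surj N ((tmap n θ).lTensor N z') (fun σ => by
    have h3 := h2 σ (Finset.mem_univ σ)
    rw [map_sub, sub_eq_zero, ← LinearMap.comp_apply, ← LinearMap.lTensor_comp, tmap_perm,
      LinearMap.lTensor_comp, LinearMap.comp_apply] at h3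
    exact h3)
  refine ⟨k', π', y, ?_⟩
  rw [LinearMap.lTensor_comp, LinearMap.comp_apply, hy, ← LinearMap.comp_apply,
    ← LinearMap.lTensor_comp, ← tmap_comp, ← h1]

theorem exists_lift_inv (n : ℕ) (t : inv (perm (R := R) n M)) :
    ∃ (k : ℕ) (π : (Fin k →₀ R) →ₗ[R] M) (t' : inv (perm (R := R) n (Fin k →₀ R))),
      tinv n π t' = t := by
  obtain ⟨k, π, y, hy⟩ := surj_flat n R ((1 : R) ⊗ₜ[R] t.1) (fun σ => by
    rw [LinearMap.lTensor_tmul, t.2 σ])
  refine ⟨k, π, TensorProduct.lid R _ y, ?_⟩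
  apply Subtype.ext
  change tmap n π (TensorProduct.lid R _ y).1 = t.1
  have h1 : ∀ y : R ⊗[R] inv (perm (R := R) n (Fin k →₀ R)), TensorProduct.lid R (TP R n M)
      ((tmap n π ∘ₗ (inv (perm (R := R) n (Fin k →₀ R))).subtype).lTensor R y) =
      tmap n π (TensorProduct.lid R _ y).1 := by
    intro y
    induction y with
    | zero => simp
    | add x y hx hy => simp only [map_add, Submodule.coe_add, hx, hy]
    | tmul r x => simp
  rw [← h1, hy]
  simp

theorem exists_lift_inv_tensor (n : ℕ) (N : Type u) [AddCommGroup N] [Module R N]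
    (x : N ⊗[R] inv (perm (R := R) n M)) :
    ∃ (k : ℕ) (π : (Fin k →₀ R) →ₗ[R] M) (x' : N ⊗[R] inv (perm (R := R) n (Fin k →₀ R))),
      (tinv n π).lTensor N x' = x := by
  induction x with
  | zero => exact ⟨0, 0, 0, map_zero _⟩
  | add x y hx hy =>
    obtain ⟨k₁, π₁, y₁, rfl⟩ := hx
    obtain ⟨k₂, π₂, y₂, rfl⟩ := hy
    obtain ⟨k, π, θ₁, θ₂, h1, h2⟩ := directed π₁ π₂
    refine ⟨k, π, (tinv n θ₁).lTensor N y₁ + (tinv n θ₂).lTensor N y₂, ?_⟩
    rw [map_add, ← LinearMap.comp_apply, ← LinearMap.comp_apply, ← LinearMap.lTensor_comp,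
      ← LinearMap.lTensor_comp, ← tinv_comp, ← tinv_comp, ← h1, ← h2]
  | tmul ν t =>
    obtain ⟨k, π, t', rfl⟩ := exists_lift_inv n t
    exact ⟨k, π, ν ⊗ₜ t', rfl⟩

/-- **Symmetric tensors of a flat module commute with tensor products.** -/
theorem good_perm (n : ℕ) : Good (perm (R := R) n M) := by
  refine ⟨fun N _ _ => ?_, fun N _ _ z hz => ?_⟩
  · rw [injective_iff_map_eq_zero]
    intro x hx
    obtain ⟨k, π, x', rfl⟩ := exists_lift_inv_tensor n N x
    rw [← LinearMap.comp_apply, ← LinearMap.lTensor_comp, subtype_tinv, LinearMap.lTensor_comp,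
      LinearMap.comp_apply] at hx
    obtain ⟨k', θ, π', h1, h2⟩ := exists_kill_pow n N π _ hx
    have hg : Good (perm (R := R) n (Fin k' →₀ R)) := good_perm_of_basis n Finsupp.basisSingleOne
    rw [← LinearMap.comp_apply, ← LinearMap.lTensor_comp, ← subtype_tinv, LinearMap.lTensor_comp,
      LinearMap.comp_apply] at h2
    have h3 := hg.inj N (h2.trans (map_zero _).symm)
    rw [h1, tinv_comp, LinearMap.lTensor_comp, LinearMap.comp_apply, h3, map_zero]
  · obtain ⟨k, π, y, hy⟩ := surj_flat n N z hz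
    refine ⟨(tinv n π).lTensor N y, ?_⟩
    rw [← LinearMap.comp_apply, ← LinearMap.lTensor_comp, subtype_tinv, hy]

end Main

end K992.TensPow
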